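import Groth.Agent.Unr55.ShDesc.Core

/-! Descent of morphisms of sheaves of sets along universally submersive morphisms. -/

universe u

open CategoryTheory CategoryTheory.Limits AlgebraicGeometry Opposite

set_option autoImplicit false
set_option backward.isDefEq.respectTransparency.types false

namespace Groth.Agent.Unr55.ShDesc

open Groth.Agent.CohProp4 Groth.Agent.Unr55.EtSh

variable {T X' X : Scheme.{u}}

theorem pl_app (p : T ⟶ X) {A B : EtDesc.Sh X} (v : A ⟶ B) {U : X.Etale} (x : EtDesc.sect A U) :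
    ((EtDesc.pullSh p).map v).hom.app (op ((EtCoh.bc p).obj U)) (pl p A x) = pl p B (v.hom.app (op U) x) :=
  (congrArg (fun w : A ⟶ (EtDesc.pushSh p).obj ((EtDesc.pullSh p).obj B) => w.hom.app (op U) x)
    ((EtDesc.adjSh p).unit.naturality v)).symm

theorem pullMap_pl (p : T ⟶ X) {A B : EtDesc.Sh X} (v : A ⟶ B) {U : X.Etale} {W : T.Etale}
    (e : W ⟶ (EtCoh.bc p).obj U) (x : EtDesc.sect A U) :
    ((EtDesc.pullSh p).map v).hom.app (op W) (((EtDesc.pullSh p).obj A).obj.map e.op (pl p A x)) =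
      ((EtDesc.pullSh p).obj B).obj.map e.op (pl p B (v.hom.app (op U) x)) := by
  rw [← pl_app]
  exact NatTrans.naturality_apply ((EtDesc.pullSh p).map v).hom e.op _

variable (f : X' ⟶ X) {F G : EtDesc.Sh X}

/-- The inverse image is faithful. -/
theorem pullSh_map_injective (hf : EtDesc.IsUnivSubmersive f) {b b' : F ⟶ G}
    (h : (EtDesc.pullSh f).map b = (EtDesc.pullSh f).map b') : b = b' := by
  ext U σ
  refine pl_injective f hf G ?_
  refine ((pl_app f b σ).symm.trans ?_).trans (pl_app f b' σ)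
  rw [h]

theorem pullSh_hom_ext {H : EtDesc.Sh X'} {a a' : (EtDesc.pullSh f).obj F ⟶ H}
    (h : ∀ (U : X.Etale) (σ : EtDesc.sect F U),
      a.hom.app (op ((EtCoh.bc f).obj U)) (pl f F σ) = a'.hom.app (op ((EtCoh.bc f).obj U)) (pl f F σ)) :
    a = a' := by
  refine ((EtDesc.adjSh f).homEquiv F H).injective ?_
  rw [Adjunction.homEquiv_unit, Adjunction.homEquiv_unit]
  ext U σ
  exact h U.unop σ

theorem app_square {A B C D : EtDesc.Sh T} {u : A ⟶ B} {v : B ⟶ D} {w : A ⟶ C} {z : C ⟶ D} (h : u ≫ v = w ≫ z)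
    (W : T.Etale) (x : EtDesc.sect A W) :
    v.hom.app (op W) (u.hom.app (op W) x) = z.hom.app (op W) (w.hom.app (op W) x) :=
  congrArg (fun m : A ⟶ D => m.hom.app (op W) x) h

theorem compat_app (a : (EtDesc.pullSh f).obj F ⟶ (EtDesc.pullSh f).obj G)
    (ha : (EtDesc.canIso f F).hom ≫ (EtDesc.pullSh (pullback.snd f f)).map a =
      (EtDesc.pullSh (pullback.fst f f)).map a ≫ (EtDesc.canIso f G).hom)
    (U : X.Etale) (σ : EtDesc.sect F U) :
    Compat f G U (a.hom.app (op ((EtCoh.bc f).obj U)) (pl f F σ)) := by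
  intro W e₁ e₂ h
  rw [← pullMap_pl (pullback.fst f f) a e₁, ← pullMap_pl (pullback.snd f f) a e₂, ← canIso_pl f F U σ e₁ e₂ h]
  exact (app_square ha W _).symm

/-- Morphisms compatible with the canonical descent data descend. -/
theorem existsUnique_hom (hf : EtDesc.IsUnivSubmersive f) (a : (EtDesc.pullSh f).obj F ⟶ (EtDesc.pullSh f).obj G)
    (ha : (EtDesc.canIso f F).hom ≫ (EtDesc.pullSh (pullback.snd f f)).map a =
      (EtDesc.pullSh (pullback.fst f f)).map a ≫ (EtDesc.canIso f G).hom) :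
    ∃! b : F ⟶ G, (EtDesc.pullSh f).map b = a := by
  choose τ hτ using fun (U : X.Etale) (σ : EtDesc.sect F U) =>
    exists_of_compat f hf G U _ (compat_app f a ha U σ)
  let b : F ⟶ G := ⟨
    { app := fun U => ↾(τ U.unop)
      naturality := fun U V g => by
        refine ConcreteCategory.hom_ext _ _ fun σ => ?_
        refine pl_injective f hf G (U := V.unop) ((hτ V.unop (F.obj.map g σ)).trans ?_)
        refine ((congrArg (fun y => a.hom.app (op ((EtCoh.bc f).obj V.unop)) y) (pl_map f F g.unop σ)).trans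
          (NatTrans.naturality_apply a.hom ((EtCoh.bc f).map g.unop).op _)).trans ?_
        refine Eq.trans ?_ (pl_map f G g.unop (τ U.unop σ)).symm
        exact congrArg _ (hτ U.unop σ).symm }⟩
  have hb : (EtDesc.pullSh f).map b = a := pullSh_hom_ext f fun U σ => by
    rw [pl_app]
    exact hτ U σ
  exact ⟨b, hb, fun b' h => pullSh_map_injective f hf (h.trans hb.symm)⟩

theorem top_comp_eq (p : T ⟶ X') {W : T.Etale} (e : W ⟶ (EtCoh.bc p).obj ((EtCoh.bc f).obj (EtCoh.top X))) :
    (e.left ≫ pullback.fst _ p) ≫ pullback.fst (EtCoh.top X).hom f = W.hom ≫ p ≫ f := by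
  have h1 : pullback.fst (EtCoh.top X).hom f = pullback.snd (EtCoh.top X).hom f ≫ f :=
    (Category.comp_id _).symm.trans pullback.condition
  refine (congrArg (_ ≫ ·) h1).trans ((Category.assoc _ _ _).symm.trans ?_)
  refine (congrArg (· ≫ f) ((Category.assoc _ _ _).trans ((congrArg (e.left ≫ ·) pullback.condition).trans
    ((Category.assoc _ _ _).symm.trans (congrArg (· ≫ p) (Over.w e.hom)))))).trans ?_
  exact Category.assoc _ _ _

theorem map_pl_top (p : T ⟶ X') (H : EtDesc.Sh X') {A : X'.Etale} (m : A ⟶ EtCoh.top X') {W : T.Etale}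
    (e : W ⟶ (EtCoh.bc p).obj A) (s : EtDesc.sect H (EtCoh.top X')) :
    ((EtDesc.pullSh p).obj H).obj.map e.op (pl p H (H.obj.map m.op s)) =
      ((EtDesc.pullSh p).obj H).obj.map ((EtCore.topIsTerminal T).from W).op (EtDesc.secPull p H s) := by
  rw [pl_map]
  change _ = ((EtDesc.pullSh p).obj H).obj.map _ (((EtDesc.pullSh p).obj H).obj.map _ (pl p H s))
  rw [← Functor.map_comp_apply, ← Functor.map_comp_apply, ← op_comp, ← op_comp]
  have hu : e ≫ (EtCoh.bc p).map m = (EtCore.topIsTerminal T).from W ≫ (EtCore.bcTopIso p).inv :=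
    (cancel_mono (EtCore.bcTopIso p).hom).1 ((EtCore.topIsTerminal T).hom_ext _ _)
  rw [hu]

theorem app_map_eq {A B : EtDesc.Sh T} (φ : A ⟶ B) {U W : T.Etale} (g : W ⟶ U) {x : EtDesc.sect A U}
    {y : EtDesc.sect B U} (h : φ.hom.app (op U) x = y) : φ.hom.app (op W) (A.obj.map g.op x) = B.obj.map g.op y :=
  (NatTrans.naturality_apply φ.hom g.op x).trans (congrArg _ h)

theorem secPull_pl (p : T ⟶ X') (F : EtDesc.Sh X) (σ : EtDesc.sect F (EtCoh.top X)) :
    EtDesc.secPull p _ (EtDesc.secPull f F σ) =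
      ((EtDesc.pullSh p).obj ((EtDesc.pullSh f).obj F)).obj.map
        ((EtCore.bcTopIso p).inv ≫ (EtCoh.bc p).map (EtCore.bcTopIso f).inv).op (pl p _ (pl f F σ)) := by
  change ((EtDesc.pullSh p).obj _).obj.map _
    (pl p _ (((EtDesc.pullSh f).obj F).obj.map (EtCore.bcTopIso f).inv.op (pl f F σ))) = _
  rw [pl_map, ← Functor.map_comp_apply, ← op_comp]

theorem canIso_secPull (F : EtDesc.Sh X) (σ : EtDesc.sect F (EtCoh.top X)) :
    (EtDesc.canIso f F).hom.hom.app (op (EtCoh.top (EtDesc.X2 f)))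
      (EtDesc.secPull (pullback.fst f f) _ (EtDesc.secPull f F σ)) =
      EtDesc.secPull (pullback.snd f f) _ (EtDesc.secPull f F σ) := by
  rw [secPull_pl, secPull_pl]
  refine canIso_pl f F _ σ _ _ ?_
  rw [top_comp_eq, top_comp_eq, pullback.condition]

theorem compat_top (F : EtDesc.Sh X) (s' : EtDesc.sect ((EtDesc.pullSh f).obj F) (EtCoh.top X'))
    (hs : (EtDesc.canIso f F).hom.hom.app (op (EtCoh.top (EtDesc.X2 f)))
      (EtDesc.secPull (pullback.fst f f) ((EtDesc.pullSh f).obj F) s') =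
      EtDesc.secPull (pullback.snd f f) ((EtDesc.pullSh f).obj F) s') :
    Compat f F (EtCoh.top X) (((EtDesc.pullSh f).obj F).obj.map (EtCore.bcTopIso f).hom.op s') := by
  intro W e₁ e₂ _
  rw [map_pl_top, map_pl_top]
  exact app_map_eq (EtDesc.canIso f F).hom ((EtCore.topIsTerminal _).from W) hs

theorem secPull_descent (hf : EtDesc.IsUnivSubmersive f) (F : EtDesc.Sh X) :
    Function.Injective (EtDesc.secPull f F) ∧
    Set.range (EtDesc.secPull f F) =
      {s' | (EtDesc.canIso f F).hom.hom.app (op (EtCoh.top (EtDesc.X2 f)))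
          (EtDesc.secPull (pullback.fst f f) ((EtDesc.pullSh f).obj F) s') =
        EtDesc.secPull (pullback.snd f f) ((EtDesc.pullSh f).obj F) s'} := by
  let i := ((EtDesc.pullSh f).obj F).obj.mapIso (EtCore.bcTopIso f).op.symm
  refine ⟨fun σ τ h => pl_injective f hf F (i.toEquiv.injective h), Set.Subset.antisymm ?_ ?_⟩
  · rintro _ ⟨σ, rfl⟩
    exact canIso_secPull f F σ
  · intro s' hs'
    obtain ⟨τ, hτ⟩ := exists_of_compat f hf F _ _ (compat_top f F s' hs')
    refine ⟨τ, ?_⟩
    change ((EtDesc.pullSh f).obj F).obj.map (EtCore.bcTopIso f).inv.op (pl f F τ) = s'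
    rw [hτ, ← Functor.map_comp_apply, ← op_comp, Iso.inv_hom_id, op_id]
    exact ConcreteCategory.congr_hom (((EtDesc.pullSh f).obj F).obj.map_id _) s'

end Groth.Agent.Unr55.ShDesc
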