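import Groth.Agent.Unr55.ShDesc.SubSh
import Groth.Agent.CohProp4.Square
import Groth.Agent.EtBC48.Site

/-! Effectivity of descent data of sheaves of sets from base change of direct images. -/

universe u

open CategoryTheory CategoryTheory.Limits AlgebraicGeometry Opposite

set_option autoImplicit false
set_option backward.isDefEq.respectTransparency.types false

namespace Groth.Agent.Unr55.ShDesc.Eff

open Groth.Agent.CohProp4 Groth.Agent.Unr55.EtSh Groth.Agent.An92.EtSets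

theorem map_map' {S : Scheme.{u}} (H : EtDesc.Sh S) {A B C : S.Etale} (a : A ⟶ B) (b : B ⟶ C)
    (x : EtDesc.sect H C) : H.obj.map a.op (H.obj.map b.op x) = H.obj.map (a ≫ b).op x := by
  rw [op_comp, Functor.map_comp_apply]

theorem map_self {S : Scheme.{u}} (H : EtDesc.Sh S) (A : S.Etale) (x : EtDesc.sect H A) :
    H.obj.map (𝟙 A).op x = x := by
  rw [op_id, H.obj.map_id]; rfl

theorem fst_snd {T S X : Scheme.{u}} (f : S ⟶ X) (g : T ⟶ S) {U : X.Etale} {W : T.Etale}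
    (d : W ⟶ (EtCoh.bc g).obj ((EtCoh.bc f).obj U)) :
    (d.left ≫ pullback.fst _ g) ≫ pullback.snd U.hom f = W.hom ≫ g :=
  (Category.assoc _ _ _).trans ((congrArg (d.left ≫ ·) pullback.condition).trans
    ((Category.assoc _ _ _).symm.trans (congrArg (· ≫ g) (Over.w d.hom))))

/-- A morphism into an iterated base change. -/
theorem exists_lift {T S X : Scheme.{u}} (f : S ⟶ X) (g : T ⟶ S) {U : X.Etale} {W : T.Etale}
    (a : W.left ⟶ U.left) (h : a ≫ U.hom = W.hom ≫ g ≫ f) :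
    ∃ d : W ⟶ (EtCoh.bc g).obj ((EtCoh.bc f).obj U), (d.left ≫ pullback.fst _ g) ≫ pullback.fst U.hom f = a :=
  ⟨MorphismProperty.Over.homMk
    (pullback.lift (pullback.lift a (W.hom ≫ g) (by rw [h, Category.assoc])) W.hom (pullback.lift_snd _ _ _))
    (pullback.lift_snd _ _ _) trivial,
    (congrArg (· ≫ pullback.fst U.hom f) (pullback.lift_fst _ _ _)).trans (pullback.lift_fst _ _ _)⟩

theorem toBcBc_fst_fst {T S X : Scheme.{u}} (f : S ⟶ X) (p : T ⟶ S) (b : T ⟶ X) (w : p ≫ f = b) (P : X.Etale) :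
    ((toBcBc f p b w P).left ≫ pullback.fst _ p) ≫ pullback.fst P.hom f = pullback.fst P.hom b :=
  (congrArg (· ≫ pullback.fst P.hom f) (toBcBc_fst f p b w P)).trans (pullback.lift_fst _ _ _)

section Proj

variable {R T S X : Scheme.{u}} (f : S ⟶ X) (g : T ⟶ S) (l : R ⟶ T) {U : X.Etale}

/-- The projection of a map into a double base change. -/
noncomputable def pr₂ {W : T.Etale} (d : W ⟶ (EtCoh.bc g).obj ((EtCoh.bc f).obj U)) : W.left ⟶ U.left :=
  (d.left ≫ pullback.fst _ g) ≫ pullback.fst U.hom f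

/-- The projection of a map into a triple base change. -/
noncomputable def pr₃ {W : R.Etale} (d : W ⟶ (EtCoh.bc l).obj ((EtCoh.bc g).obj ((EtCoh.bc f).obj U))) :
    W.left ⟶ U.left :=
  ((d.left ≫ pullback.fst _ l) ≫ pullback.fst _ g) ≫ pullback.fst U.hom f

theorem ext₂ {W : T.Etale} {a b : W ⟶ (EtCoh.bc g).obj ((EtCoh.bc f).obj U)} (h : pr₂ f g a = pr₂ f g b) :
    a = b :=
  EtBC48.bc_hom_ext₂ f g ((Category.assoc _ _ _).symm.trans (h.trans (Category.assoc _ _ _)))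

theorem ext₃ {W : R.Etale} {a b : W ⟶ (EtCoh.bc l).obj ((EtCoh.bc g).obj ((EtCoh.bc f).obj U))}
    (h : pr₃ f g l a = pr₃ f g l b) : a = b :=
  EtBC48.bc_hom_ext₃ f g l (((Category.assoc _ _ _).trans (Category.assoc _ _ _)).symm.trans
    (h.trans ((Category.assoc _ _ _).trans (Category.assoc _ _ _))))

theorem pr₂_id : pr₂ f g (𝟙 ((EtCoh.bc g).obj ((EtCoh.bc f).obj U))) = pullback.fst _ g ≫ pullback.fst U.hom f :=
  congrArg (· ≫ pullback.fst U.hom f) (Category.id_comp _)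

theorem pr₂_comp {W W' : T.Etale} (k : W' ⟶ W) (d : W ⟶ (EtCoh.bc g).obj ((EtCoh.bc f).obj U)) :
    pr₂ f g (k ≫ d) = k.left ≫ pr₂ f g d :=
  (congrArg (· ≫ pullback.fst U.hom f) (Category.assoc _ _ _)).trans (Category.assoc _ _ _)

theorem pr₃_comp {W W' : R.Etale} (k : W' ⟶ W) (d : W ⟶ (EtCoh.bc l).obj ((EtCoh.bc g).obj ((EtCoh.bc f).obj U))) :
    pr₃ f g l (k ≫ d) = k.left ≫ pr₃ f g l d :=
  (congrArg (· ≫ pullback.fst U.hom f) ((congrArg (· ≫ pullback.fst _ g) (Category.assoc _ _ _)).trans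
    (Category.assoc _ _ _))).trans (Category.assoc _ _ _)

theorem pr₂_map {A : S.Etale} (m : A ⟶ (EtCoh.bc f).obj U) :
    pr₂ f g ((EtCoh.bc g).map m) = pullback.fst A.hom g ≫ m.left ≫ pullback.fst U.hom f :=
  (congrArg (· ≫ pullback.fst U.hom f) (CohProp4.bc_map_fst g m)).trans (Category.assoc _ _ _)

theorem pr₃_map {A : T.Etale} (m : A ⟶ (EtCoh.bc g).obj ((EtCoh.bc f).obj U)) :
    pr₃ f g l ((EtCoh.bc l).map m) = pullback.fst A.hom l ≫ pr₂ f g m :=
  (congrArg (fun k => (k ≫ pullback.fst _ g) ≫ pullback.fst U.hom f) (CohProp4.bc_map_fst l m)).trans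
    ((congrArg (· ≫ pullback.fst U.hom f) (Category.assoc _ _ _)).trans (Category.assoc _ _ _))

theorem pr₃_toBcBc (q : R ⟶ S) (w : l ≫ g = q) {W : R.Etale} (d : W ⟶ (EtCoh.bc q).obj ((EtCoh.bc f).obj U)) :
    pr₃ f g l (d ≫ toBcBc g l q w ((EtCoh.bc f).obj U)) = pr₂ f q d :=
  (pr₃_comp f g l _ _).trans ((congrArg (fun k => d.left ≫ (k ≫ pullback.fst U.hom f))
    (toBcBc_fst_fst g l q w ((EtCoh.bc f).obj U))).trans (Category.assoc _ _ _).symm)

theorem exists_lift_bc {W : T.Etale} (d : W ⟶ (EtCoh.bc g).obj ((EtCoh.bc f).obj U)) :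
    pr₂ f g d ≫ U.hom = W.hom ≫ g ≫ f :=
  (Category.assoc _ _ _).trans ((congrArg (_ ≫ ·) pullback.condition).trans ((Category.assoc _ _ _).symm.trans
    ((congrArg (· ≫ f) (fst_snd f g d)).trans (Category.assoc _ _ _))))

end Proj

theorem pr₂_bcSquare {S' X S X'' : Scheme.{u}} (f : X ⟶ S) (g : S' ⟶ S) (f' : X'' ⟶ S') (h : X'' ⟶ X)
    (w : h ≫ f = f' ≫ g) (U : S.Etale) {A : S'.Etale} (b : A ⟶ (EtCoh.bc g).obj U) :
    pr₂ f h ((EtCoh.bc f').map b ≫ bcSquare f g f' h w U) = pullback.fst A.hom f' ≫ b.left ≫ pullback.fst U.hom g :=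
  (pr₂_comp f h _ _).trans ((congrArg (((EtCoh.bc f').map b).left ≫ ·) ((Category.assoc _ _ _).trans
    (bcSquare_fst f g f' h w U))).trans ((Category.assoc _ _ _).symm.trans
      ((congrArg (· ≫ pullback.fst U.hom g) (CohProp4.bc_map_fst f' b)).trans (Category.assoc _ _ _))))

theorem eq_of_comp {S : Scheme.{u}} {A B C : EtDesc.Sh S} {a : A ⟶ B} {b : B ⟶ C} [Mono b] {c : A ⟶ C}
    (h : a ≫ b = c) (O : S.Etale) (x : EtDesc.sect A O) (y : EtDesc.sect B O) (z : EtDesc.sect C O)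
    (hc : c.hom.app (op O) x = z) (hb : b.hom.app (op O) y = z) : a.hom.app (op O) x = y := by
  subst h
  exact EtSets93.injective_app b O (hc.trans hb.symm)

theorem pullVia_inv_pl {T S X : Scheme.{u}} (g : T ⟶ S) (a : S ⟶ X) (b : T ⟶ X) (w : g ≫ a = b) (F : EtDesc.Sh X)
    (B : X.Etale) (σ : EtDesc.sect F B) {R : T.Etale} (d : R ⟶ (EtCoh.bc b).obj B) :
    (EtDesc.pullVia g a b w F).inv.hom.app (op R) (((EtDesc.pullSh b).obj F).obj.map d.op (pl b F σ)) =
      ((EtDesc.pullSh g).obj ((EtDesc.pullSh a).obj F)).obj.map (d ≫ toBcBc a g b w B).op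
        (pl g _ (pl a F σ)) := by
  have h := pullVia_pl g a b w F B σ (d ≫ toBcBc a g b w B) d
    (((congrArg (· ≫ pullback.fst B.hom a) (Category.assoc _ _ _)).trans (Category.assoc _ _ _)).trans
      (congrArg (d.left ≫ ·) (toBcBc_fst_fst a g b w B)))
  exact (congrArg (fun z => (EtDesc.pullVia g a b w F).inv.hom.app (op R) z) h.symm).trans
    (congrArg (fun v : (EtDesc.pullSh g).obj ((EtDesc.pullSh a).obj F) ⟶ _ => v.hom.app (op R)
      (((EtDesc.pullSh g).obj ((EtDesc.pullSh a).obj F)).obj.map (d ≫ toBcBc a g b w B).op (pl g _ (pl a F σ))))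
      (EtDesc.pullVia g a b w F).hom_inv_id)

theorem comp_app {S : Scheme.{u}} {A B C : EtDesc.Sh S} (a : A ⟶ B) (b : B ⟶ C) (O : S.Etale)
    (x : EtDesc.sect A O) : (a ≫ b).hom.app (op O) x = b.hom.app (op O) (a.hom.app (op O) x) := rfl

theorem iso_inv_inj {S : Scheme.{u}} {A B : EtDesc.Sh S} (i : A ≅ B) (O : S.Etale) {x y : EtDesc.sect B O}
    (h : i.inv.hom.app (op O) x = i.inv.hom.app (op O) y) : x = y :=
  EtSets93.injective_app i.inv O h

theorem injective_stalk {S : Scheme.{u}} {Ω : Type u} [Field Ω] [IsSepClosed Ω] (η : Spec (CommRingCat.of Ω) ⟶ S)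
    {A B : EtDesc.Sh S} (a : A ⟶ B) [Mono a] : Function.Injective ((stalkSh η).map a) := by
  intro x y e
  obtain ⟨U, t, σ, τ, rfl, rfl⟩ :=
    (Scheme.pointSmallEtale η).toPresheafFiber_jointly_surjective₂ (P := A.obj) x y
  obtain ⟨V, g, t', h1, h2⟩ := ((Scheme.pointSmallEtale η).toPresheafFiber_eq_iff' (P := B.obj) U t
    (a.hom.app (op U) σ) (a.hom.app (op U) τ)).1
    ((((Scheme.pointSmallEtale η).toPresheafFiber_naturality_apply a.hom U t σ).symm.trans e).trans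
      ((Scheme.pointSmallEtale η).toPresheafFiber_naturality_apply a.hom U t τ))
  refine ((Scheme.pointSmallEtale η).toPresheafFiber_eq_iff' (P := A.obj) U t σ τ).2
    ⟨V, g, t', h1, EtSets93.injective_app a V ?_⟩
  exact ((NatTrans.naturality_apply a.hom g.op σ).trans h2).trans (NatTrans.naturality_apply a.hom g.op τ).symm

theorem hom_ext_pl₂ {T S X : Scheme.{u}} (f : S ⟶ X) (p : T ⟶ S) {F : EtDesc.Sh X} {H : EtDesc.Sh T}
    {a a' : (EtDesc.pullSh p).obj ((EtDesc.pullSh f).obj F) ⟶ H}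
    (h : ∀ (U : X.Etale) (σ : EtDesc.sect F U),
      a.hom.app (op ((EtCoh.bc p).obj ((EtCoh.bc f).obj U))) (pl p _ (pl f F σ)) =
        a'.hom.app (op ((EtCoh.bc p).obj ((EtCoh.bc f).obj U))) (pl p _ (pl f F σ))) : a = a' := by
  refine ((EtDesc.adjSh p).homEquiv _ _).injective ?_
  refine pullSh_hom_ext f fun U σ => ?_
  rw [Adjunction.homEquiv_unit, Adjunction.homEquiv_unit]
  exact h U σ

theorem comp_apply_eq {S : Scheme.{u}} {A B B' C : EtDesc.Sh S} {a : A ⟶ B} {b : B ⟶ C} {a' : A ⟶ B'}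
    {b' : B' ⟶ C} {O : S.Etale} {x : EtDesc.sect A O} {y : EtDesc.sect B O} {y' : EtDesc.sect B' O}
    {z : EtDesc.sect C O} (h₁ : a.hom.app (op O) x = y) (h₂ : b.hom.app (op O) y = z)
    (h₃ : a'.hom.app (op O) x = y') (h₄ : b'.hom.app (op O) y' = z) :
    (a ≫ b).hom.app (op O) x = (a' ≫ b').hom.app (op O) x :=
  ((congrArg (fun w => b.hom.app (op O) w) h₁).trans h₂).trans
    ((congrArg (fun w => b'.hom.app (op O) w) h₃).trans h₄).symm

variable {X' X : Scheme.{u}} {f : X' ⟶ X} {F' : EtDesc.Sh X'}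
  (φ : (EtDesc.pullSh (pullback.fst f f)).obj F' ≅ (EtDesc.pullSh (pullback.snd f f)).obj F')

theorem pullIsoVia_pl (g : EtDesc.X3 f ⟶ EtDesc.X2 f) (b₁ b₂ : EtDesc.X3 f ⟶ X') (w₁ : g ≫ pullback.fst f f = b₁)
    (w₂ : g ≫ pullback.snd f f = b₂) {B₁ B₂ : X'.Etale} (σ₁ : EtDesc.sect F' B₁) (σ₂ : EtDesc.sect F' B₂)
    {R : (EtDesc.X3 f).Etale} (d₁ : R ⟶ (EtCoh.bc b₁).obj B₁) (d₂ : R ⟶ (EtCoh.bc b₂).obj B₂) :
    (EtDesc.pullIsoVia g b₁ b₂ w₁ w₂ F' φ).hom.hom.app (op R)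
        (((EtDesc.pullSh b₁).obj F').obj.map d₁.op (pl b₁ F' σ₁)) =
      ((EtDesc.pullSh b₂).obj F').obj.map d₂.op (pl b₂ F' σ₂) ↔
    ((EtDesc.pullSh g).map φ.hom).hom.app (op R)
        (((EtDesc.pullSh g).obj ((EtDesc.pullSh (pullback.fst f f)).obj F')).obj.map
          (d₁ ≫ toBcBc (pullback.fst f f) g b₁ w₁ B₁).op (pl g _ (pl (pullback.fst f f) F' σ₁))) =
      ((EtDesc.pullSh g).obj ((EtDesc.pullSh (pullback.snd f f)).obj F')).obj.map
          (d₂ ≫ toBcBc (pullback.snd f f) g b₂ w₂ B₂).op (pl g _ (pl (pullback.snd f f) F' σ₂)) := by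
  rw [← pullVia_inv_pl g (pullback.fst f f) b₁ w₁ F' B₁ σ₁ d₁, ← pullVia_inv_pl g (pullback.snd f f) b₂ w₂ F' B₂ σ₂ d₂]
  let v := EtDesc.pullVia g (pullback.snd f f) b₂ w₂ F'
  rw [show (EtDesc.pullIsoVia g b₁ b₂ w₁ w₂ F' φ).hom = (EtDesc.pullVia g (pullback.fst f f) b₁ w₁ F').inv ≫
    (EtDesc.pullSh g).map φ.hom ≫ v.hom from rfl, comp_app, comp_app]
  constructor
  · intro h
    refine Eq.trans ?_ (congrArg (fun z => v.inv.hom.app (op R) z) h)
    exact (ConcreteCategory.congr_hom (congrArg (fun k : (EtDesc.pullSh g).obj ((EtDesc.pullSh (pullback.snd f f)).obj F') ⟶ _ => k.hom.app (op R)) v.hom_inv_id) _).symm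
  · intro h
    exact (congrArg (fun z => v.hom.hom.app (op R) z) h).trans
      (congrArg (fun k : (EtDesc.pullSh b₂).obj F' ⟶ _ => k.hom.app (op R)
        (((EtDesc.pullSh b₂).obj F').obj.map d₂.op (pl b₂ F' σ₂))) v.inv_hom_id)

/-- The two comparison maps for a descent datum, first one. -/
noncomputable def t₁ (U : X.Etale) :
    (EtCoh.bc (pullback.snd f f ≫ f)).obj U ⟶ (EtCoh.bc (pullback.fst f f)).obj ((EtCoh.bc f).obj U) :=
  toBcBc f _ _ pullback.condition U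

/-- The two comparison maps for a descent datum, second one. -/
noncomputable def t₂ (U : X.Etale) :
    (EtCoh.bc (pullback.snd f f ≫ f)).obj U ⟶ (EtCoh.bc (pullback.snd f f)).obj ((EtCoh.bc f).obj U) :=
  toBcBc f _ _ rfl U

theorem t₁_fst (U : X.Etale) :
    pr₂ f (pullback.fst f f) (t₁ (f := f) U) =
      pullback.fst U.hom (pullback.snd f f ≫ f) := toBcBc_fst_fst _ _ _ _ _

theorem t₂_fst (U : X.Etale) :
    pr₂ f (pullback.snd f f) (t₂ (f := f) U) =
      pullback.fst U.hom (pullback.snd f f ≫ f) := toBcBc_fst_fst _ _ _ _ _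

/-- First side. -/
noncomputable def A₁ (U : X.Etale) (σ : EtDesc.sect ((EtDesc.pushSh f).obj F') U) :
    EtDesc.sect ((EtDesc.pushSh (pullback.snd f f ≫ f)).obj ((EtDesc.pullSh (pullback.snd f f)).obj F')) U :=
  ((EtDesc.pullSh (pullback.snd f f)).obj F').obj.map (t₁ U).op
    (φ.hom.hom.app (op ((EtCoh.bc (pullback.fst f f)).obj ((EtCoh.bc f).obj U)))
      (pl (pullback.fst f f) F' (U := (EtCoh.bc f).obj U) σ))

/-- Second side. -/
noncomputable def A₂ (U : X.Etale) (σ : EtDesc.sect ((EtDesc.pushSh f).obj F') U) :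
    EtDesc.sect ((EtDesc.pushSh (pullback.snd f f ≫ f)).obj ((EtDesc.pullSh (pullback.snd f f)).obj F')) U :=
  ((EtDesc.pullSh (pullback.snd f f)).obj F').obj.map (t₂ U).op
    (pl (pullback.snd f f) F' (U := (EtCoh.bc f).obj U) σ)

/-- First morphism. -/
noncomputable def a₁ : (EtDesc.pushSh f).obj F' ⟶
    (EtDesc.pushSh (pullback.snd f f ≫ f)).obj ((EtDesc.pullSh (pullback.snd f f)).obj F') := ⟨
  { app := fun U => ↾(A₁ φ U.unop)
    naturality := fun U V g => ConcreteCategory.hom_ext _ _ fun σ => by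
      let G := (EtDesc.pullSh (pullback.snd f f)).obj F'
      change A₁ φ V.unop (F'.obj.map ((EtCoh.bc f).map g.unop).op σ) =
        G.obj.map ((EtCoh.bc (pullback.snd f f ≫ f)).map g.unop).op (A₁ φ U.unop σ)
      simp only [A₁]
      rw [pl_map]
      refine (congrArg (G.obj.map _) (NatTrans.naturality_apply φ.hom.hom _ _)).trans ?_
      refine (map_map' G _ _ _).trans (Eq.trans ?_ (map_map' G _ _ _).symm)
      refine congrArg (fun k => G.obj.map (Quiver.Hom.op k) _) (ext₂ f _ ?_)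
      refine (pr₂_comp f _ _ _).trans (Eq.trans ?_ (pr₂_comp f _ _ _).symm)
      rw [pr₂_map, t₁_fst]
      refine Eq.trans ?_ (CohProp4.bc_map_fst _ g.unop).symm
      rw [CohProp4.bc_map_fst]
      exact (Category.assoc _ _ _).symm.trans (congrArg (· ≫ g.unop.left)
        ((Category.assoc _ _ _).symm.trans (toBcBc_fst_fst _ _ _ _ _))) }⟩

/-- Second morphism. -/
noncomputable def a₂ : (EtDesc.pushSh f).obj F' ⟶
    (EtDesc.pushSh (pullback.snd f f ≫ f)).obj ((EtDesc.pullSh (pullback.snd f f)).obj F') := ⟨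
  { app := fun U => ↾(A₂ U.unop)
    naturality := fun U V g => ConcreteCategory.hom_ext _ _ fun σ => by
      let G := (EtDesc.pullSh (pullback.snd f f)).obj F'
      change A₂ V.unop (F'.obj.map ((EtCoh.bc f).map g.unop).op σ) =
        G.obj.map ((EtCoh.bc (pullback.snd f f ≫ f)).map g.unop).op (A₂ U.unop σ)
      simp only [A₂]
      rw [pl_map]
      refine (map_map' G _ _ _).trans (Eq.trans ?_ (map_map' G _ _ _).symm)
      refine congrArg (fun k => G.obj.map (Quiver.Hom.op k) _) (ext₂ f _ ?_)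
      refine (pr₂_comp f _ _ _).trans (Eq.trans ?_ (pr₂_comp f _ _ _).symm)
      rw [pr₂_map, t₂_fst]
      refine Eq.trans ?_ (CohProp4.bc_map_fst _ g.unop).symm
      rw [CohProp4.bc_map_fst]
      exact (Category.assoc _ _ _).symm.trans (congrArg (· ≫ g.unop.left)
        ((Category.assoc _ _ _).symm.trans (toBcBc_fst_fst _ _ _ _ _))) }⟩

theorem agree_apply {U : X.Etale} {σ : EtDesc.sect ((EtDesc.pushSh f).obj F') U} (h : A₁ φ U σ = A₂ U σ)
    {W : (EtDesc.X2 f).Etale} (e₁ : W ⟶ (EtCoh.bc (pullback.fst f f)).obj ((EtCoh.bc f).obj U))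
    (e₂ : W ⟶ (EtCoh.bc (pullback.snd f f)).obj ((EtCoh.bc f).obj U))
    (he : pr₂ f _ e₁ = pr₂ f _ e₂) :
    φ.hom.hom.app (op W) (((EtDesc.pullSh (pullback.fst f f)).obj F').obj.map e₁.op
        (pl (pullback.fst f f) F' (U := (EtCoh.bc f).obj U) σ)) =
      ((EtDesc.pullSh (pullback.snd f f)).obj F').obj.map e₂.op
        (pl (pullback.snd f f) F' (U := (EtCoh.bc f).obj U) σ) := by
  let G := (EtDesc.pullSh (pullback.snd f f)).obj F'
  obtain ⟨d, hd⟩ : ∃ d : W ⟶ (EtCoh.bc (pullback.snd f f ≫ f)).obj U,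
      d.left ≫ pullback.fst U.hom _ = pr₂ f _ e₂ :=
    ⟨MorphismProperty.Over.homMk (pullback.lift (pr₂ f _ e₂) W.hom (exists_lift_bc f _ e₂))
      (pullback.lift_snd _ _ _) trivial, pullback.lift_fst _ _ _⟩
  have h1 : d ≫ t₁ U = e₁ := ext₂ f _ ((pr₂_comp f _ _ _).trans
    ((congrArg (d.left ≫ ·) (t₁_fst U)).trans (hd.trans he.symm)))
  have h2 : d ≫ t₂ U = e₂ := ext₂ f _ ((pr₂_comp f _ _ _).trans
    ((congrArg (d.left ≫ ·) (t₂_fst U)).trans hd))
  refine (NatTrans.naturality_apply φ.hom.hom e₁.op _).trans ?_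
  rw [← h1, ← h2, ← map_map' G, ← map_map' G]
  exact congrArg (G.obj.map d.op) h

theorem cocycle_pl (hφ : EtDesc.IsCocycle F' φ) {R : (EtDesc.X3 f).Etale} {B₁ B₂ B₃ : X'.Etale}
    (σ₁ : EtDesc.sect F' B₁) (σ₂ : EtDesc.sect F' B₂) (σ₃ : EtDesc.sect F' B₃)
    (d₁ : R ⟶ (EtCoh.bc (EtDesc.q1 (f := f))).obj B₁) (d₂ : R ⟶ (EtCoh.bc (EtDesc.q2 (f := f))).obj B₂)
    (d₃ : R ⟶ (EtCoh.bc (EtDesc.q3 (f := f))).obj B₃)
    (h₁₃ : (EtDesc.pullIsoVia (EtDesc.p13 f) EtDesc.q1 EtDesc.q3 EtDesc.p13_fst EtDesc.p13_snd F' φ).hom.hom.app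
        (op R) (((EtDesc.pullSh EtDesc.q1).obj F').obj.map d₁.op (pl EtDesc.q1 F' σ₁)) =
      ((EtDesc.pullSh EtDesc.q3).obj F').obj.map d₃.op (pl EtDesc.q3 F' σ₃))
    (h₂₃ : (EtDesc.pullIsoVia (EtDesc.p23 f) EtDesc.q2 EtDesc.q3 EtDesc.p23_fst rfl F' φ).hom.hom.app
        (op R) (((EtDesc.pullSh EtDesc.q2).obj F').obj.map d₂.op (pl EtDesc.q2 F' σ₂)) =
      ((EtDesc.pullSh EtDesc.q3).obj F').obj.map d₃.op (pl EtDesc.q3 F' σ₃)) :
    (EtDesc.pullIsoVia (EtDesc.p12 f) EtDesc.q1 EtDesc.q2 rfl rfl F' φ).hom.hom.app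
        (op R) (((EtDesc.pullSh EtDesc.q1).obj F').obj.map d₁.op (pl EtDesc.q1 F' σ₁)) =
      ((EtDesc.pullSh EtDesc.q2).obj F').obj.map d₂.op (pl EtDesc.q2 F' σ₂) := by
  exact eq_of_comp hφ R _ _ _ h₁₃ h₂₃

theorem isPullback_triple (f : X' ⟶ X) :
    IsPullback (EtDesc.p12 f) (EtDesc.q3 (f := f)) (pullback.snd f f ≫ f) f :=
  ((IsPullback.of_hasPullback (pullback.snd f f) (pullback.fst f f)).flip.paste_horiz
    (IsPullback.of_hasPullback f f).flip).flip

theorem key (hφ : EtDesc.IsCocycle F' φ) {U : X.Etale} {W : X'.Etale} (b : W ⟶ (EtCoh.bc f).obj U)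
    (σ : EtDesc.sect ((EtDesc.pushSh f).obj F') U) (s : EtDesc.sect F' W)
    (h : φ.hom.hom.app (op ((EtCoh.bc (pullback.snd f f)).obj W))
        (((EtDesc.pullSh (pullback.fst f f)).obj F').obj.map
          ((EtCoh.bc (pullback.snd f f)).map b ≫ bcSquare f f (pullback.snd f f) (pullback.fst f f) pullback.condition U).op
          (pl (pullback.fst f f) F' (U := (EtCoh.bc f).obj U) σ)) = pl (pullback.snd f f) F' s)
    (bc2 : Mono (EtBC.baseChange0Sh (pullback.snd f f ≫ f) f (EtDesc.q3 (f := f)) (EtDesc.p12 f)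
      (isPullback_triple f).w ((EtDesc.pullSh (pullback.snd f f)).obj F'))) :
    ((EtDesc.pullSh f).obj _).obj.map b.op (pl f _ (A₁ φ U σ)) =
      ((EtDesc.pullSh f).obj _).obj.map b.op (pl f _ (A₂ U σ)) := by
  let G := (EtDesc.pullSh (pullback.snd f f)).obj F'
  let β := EtBC.baseChange0Sh (pullback.snd f f ≫ f) f (EtDesc.q3 (f := f)) (EtDesc.p12 f) (isPullback_triple f).w G
  let R := (EtCoh.bc (EtDesc.q3 (f := f))).obj W
  let fU := (EtCoh.bc f).obj U
  let sq := bcSquare (pullback.snd f f ≫ f) f (EtDesc.q3 (f := f)) (EtDesc.p12 f) (isPullback_triple f).w U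
  let d := (EtCoh.bc (EtDesc.q3 (f := f))).map b ≫ sq
  let a : R.left ⟶ U.left := pullback.fst W.hom _ ≫ b.left ≫ pullback.fst U.hom f
  have hd : (d.left ≫ pullback.fst _ (EtDesc.p12 f)) ≫ pullback.fst U.hom (pullback.snd f f ≫ f) = a :=
    pr₂_bcSquare (pullback.snd f f ≫ f) f (EtDesc.q3 (f := f)) (EtDesc.p12 f) (isPullback_triple f).w U b
  have ha : a ≫ U.hom = R.hom ≫ EtDesc.q3 ≫ f := by
    have hw : b.left ≫ pullback.snd U.hom f = W.hom := Over.w b.hom
    have hR : pullback.fst W.hom (EtDesc.q3 (f := f)) ≫ W.hom = R.hom ≫ EtDesc.q3 := pullback.condition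
    refine (Category.assoc _ _ _).trans ?_
    refine (congrArg (pullback.fst W.hom _ ≫ ·) ((Category.assoc _ _ _).trans ((congrArg (b.left ≫ ·)
      (pullback.condition (f := U.hom) (g := f))).trans ((Category.assoc _ _ _).symm.trans
        (congrArg (· ≫ f) hw))))).trans ?_
    exact (Category.assoc _ _ _).symm.trans ((congrArg (· ≫ f) hR).trans (Category.assoc _ _ _))
  have hq : ∀ {g : EtDesc.X3 f ⟶ EtDesc.X2 f} {q : EtDesc.X3 f ⟶ X'}, g ≫ pullback.fst f f = q →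
      g ≫ pullback.snd f f = EtDesc.q3 → EtDesc.q3 ≫ f = q ≫ f := fun {g q} w₁ w₂ => by
    rw [← w₁, ← w₂, Category.assoc, Category.assoc, pullback.condition]
  obtain ⟨d₁, hd₁⟩ := exists_lift f (EtDesc.q1 (f := f)) (W := R) a
    (ha.trans (congrArg (R.hom ≫ ·) (hq EtDesc.p13_fst EtDesc.p13_snd)))
  obtain ⟨d₂, hd₂⟩ := exists_lift f (EtDesc.q2 (f := f)) (W := R) a
    (ha.trans (congrArg (R.hom ≫ ·) (hq (g := EtDesc.p23 f) EtDesc.p23_fst rfl)))
  let m := (EtCoh.bc (pullback.snd f f)).map b ≫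
    bcSquare f f (pullback.snd f f) (pullback.fst f f) pullback.condition U
  have hm : pr₂ f _ m = pullback.fst W.hom _ ≫ b.left ≫ pullback.fst U.hom f :=
    pr₂_bcSquare f f (pullback.snd f f) (pullback.fst f f) pullback.condition U b
  have side : ∀ (g : EtDesc.X3 f ⟶ EtDesc.X2 f) (q : EtDesc.X3 f ⟶ X') (w₁ : g ≫ pullback.fst f f = q)
      (w₂ : g ≫ pullback.snd f f = EtDesc.q3) (e : R ⟶ (EtCoh.bc q).obj fU),
      pr₂ f q e = a →
      (EtDesc.pullIsoVia g q EtDesc.q3 w₁ w₂ F' φ).hom.hom.app (op R)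
        (((EtDesc.pullSh q).obj F').obj.map e.op (pl q F' (U := fU) σ)) =
      ((EtDesc.pullSh EtDesc.q3).obj F').obj.map (𝟙 R : R ⟶ (EtCoh.bc EtDesc.q3).obj W).op (pl EtDesc.q3 F' s) := by
    intro g q w₁ w₂ e he
    rw [pullIsoVia_pl, Category.id_comp]
    let k : R ⟶ (EtCoh.bc g).obj ((EtCoh.bc (pullback.snd f f)).obj W) :=
      toBcBc (pullback.snd f f) g _ w₂ W
    have hk : (k.left ≫ pullback.fst _ g) ≫ pullback.fst W.hom _ = pullback.fst W.hom _ := toBcBc_fst_fst _ _ _ _ _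
    have hek : e ≫ toBcBc (pullback.fst f f) g q w₁ fU = k ≫ (EtCoh.bc g).map m := by
      refine ext₃ f (pullback.fst f f) g ((pr₃_toBcBc f _ g q w₁ e).trans (he.trans ?_))
      refine Eq.trans ?_ (pr₃_comp f _ g _ _).symm
      refine Eq.trans ?_ (congrArg (k.left ≫ ·) (pr₃_map f _ g m)).symm
      rw [hm]
      exact (congrArg (· ≫ b.left ≫ pullback.fst U.hom f) hk).symm.trans
        ((Category.assoc _ _ _).trans (Category.assoc _ _ _))
    rw [hek, ← map_map', ← pl_map, pullMap_pl]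
    exact congrArg (fun x => ((EtDesc.pullSh g).obj G).obj.map k.op (pl g G x)) h
  have h12 := (pullIsoVia_pl φ _ _ _ rfl rfl σ σ d₁ d₂).1 (cocycle_pl φ hφ (B₁ := fU) (B₂ := fU) σ σ s d₁ d₂ (𝟙 R)
    (side _ _ EtDesc.p13_fst EtDesc.p13_snd d₁ hd₁) (side _ _ EtDesc.p23_fst rfl d₂ hd₂))
  refine EtSets93.injective_app β W ?_
  have hval : ∀ x, β.hom.app (op W) (((EtDesc.pullSh f).obj _).obj.map b.op (pl f _ x)) =
      ((EtDesc.pullSh (EtDesc.p12 f)).obj G).obj.map d.op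
        (pl (EtDesc.p12 f) G (U := (EtCoh.bc (pullback.snd f f ≫ f)).obj U) x) := fun x => by
    refine (NatTrans.naturality_apply β.hom b.op _).trans ?_
    rw [baseChange_pl]
    exact map_map' ((EtDesc.pullSh (EtDesc.p12 f)).obj G) _ _ _
  rw [hval, hval]
  simp only [A₁, A₂]
  rw [pl_map, pl_map, map_map', map_map', ← pullMap_pl (EtDesc.p12 f) φ.hom]
  have hc₁ : d₁ ≫ toBcBc (pullback.fst f f) (EtDesc.p12 f) (EtDesc.p12 f ≫ pullback.fst f f) rfl fU =
      d ≫ (EtCoh.bc (EtDesc.p12 f)).map (t₁ U) := by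
    refine ext₃ f (pullback.fst f f) (EtDesc.p12 f) ((pr₃_toBcBc f _ _ _ rfl d₁).trans (hd₁.trans ?_))
    refine Eq.trans ?_ (pr₃_comp f _ _ _ _).symm
    refine Eq.trans ?_ (congrArg (d.left ≫ ·) (pr₃_map f _ _ _)).symm
    rw [t₁_fst]
    exact hd.symm.trans (Category.assoc _ _ _)
  have hc₂ : d₂ ≫ toBcBc (pullback.snd f f) (EtDesc.p12 f) (EtDesc.p12 f ≫ pullback.snd f f) rfl fU =
      d ≫ (EtCoh.bc (EtDesc.p12 f)).map (t₂ U) := by
    refine ext₃ f (pullback.snd f f) (EtDesc.p12 f) ((pr₃_toBcBc f _ _ _ rfl d₂).trans (hd₂.trans ?_))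
    refine Eq.trans ?_ (pr₃_comp f _ _ _ _).symm
    refine Eq.trans ?_ (congrArg (d.left ≫ ·) (pr₃_map f _ _ _)).symm
    rw [t₂_fst]
    exact hd.symm.trans (Category.assoc _ _ _)
  rw [← hc₁, ← hc₂]
  exact h12


/-- The comparison of `f^* f_* F'` with the direct image of the inverse image. -/
noncomputable def beta : (EtDesc.pullSh f).obj ((EtDesc.pushSh f).obj F') ⟶
    (EtDesc.pushSh (pullback.snd f f)).obj ((EtDesc.pullSh (pullback.snd f f)).obj F') :=
  EtBC.baseChange0Sh f f (pullback.snd f f) (pullback.fst f f) pullback.condition F' ≫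
    (EtDesc.pushSh (pullback.snd f f)).map φ.hom

theorem beta_pl {U : X.Etale} {W : X'.Etale} (b : W ⟶ (EtCoh.bc f).obj U)
    (σ : EtDesc.sect ((EtDesc.pushSh f).obj F') U) :
    (beta φ).hom.app (op W) (((EtDesc.pullSh f).obj _).obj.map b.op (pl f _ σ)) =
      φ.hom.hom.app (op ((EtCoh.bc (pullback.snd f f)).obj W))
      (((EtDesc.pullSh (pullback.fst f f)).obj F').obj.map
        ((EtCoh.bc (pullback.snd f f)).map b ≫ bcSquare f f (pullback.snd f f) (pullback.fst f f) pullback.condition U).op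
        (pl (pullback.fst f f) F' (U := (EtCoh.bc f).obj U) σ)) := by
  refine congrArg (φ.hom.hom.app (op ((EtCoh.bc (pullback.snd f f)).obj W))) ?_
  refine (NatTrans.naturality_apply (EtBC.baseChange0Sh f f (pullback.snd f f) (pullback.fst f f)
    pullback.condition F').hom b.op _).trans ?_
  rw [baseChange_pl]
  exact map_map' ((EtDesc.pullSh (pullback.fst f f)).obj F') _ _ _

variable {F : EtDesc.Sh X} (ι : F ⟶ (EtDesc.pushSh f).obj F')

theorem transpose_pl (U : X.Etale) (σ : EtDesc.sect F U) :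
    (((EtDesc.adjSh f).homEquiv F F').symm ι).hom.app (op ((EtCoh.bc f).obj U)) (pl f F σ) = ι.hom.app (op U) σ :=
  congrArg (fun v : F ⟶ (EtDesc.pushSh f).obj F' => v.hom.app (op U) σ)
    ((((EtDesc.adjSh f).homEquiv_unit F F' _).symm).trans (Equiv.apply_symm_apply _ _))

theorem fac (hag : ∀ (U : X.Etale) (σ : EtDesc.sect F U), A₁ φ U (ι.hom.app (op U) σ) = A₂ U (ι.hom.app (op U) σ)) :
    (EtDesc.pullSh f).map ι ≫ beta φ =
      ((EtDesc.adjSh f).homEquiv F F').symm ι ≫ (EtDesc.adjSh (pullback.snd f f)).unit.app F' := by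
  refine pullSh_hom_ext f fun U σ => ?_
  refine (congrArg (fun z => (beta φ).hom.app _ z) ((pl_app f ι σ).trans (map_self _ _ _).symm)).trans ?_
  refine (beta_pl φ _ _).trans (Eq.trans ?_ (congrArg (pl (pullback.snd f f) F') (transpose_pl ι U σ)).symm)
  refine (agree_apply φ (hag U σ) _ (𝟙 _) ?_).trans (map_self _ _ _)
  refine (pr₂_bcSquare f f _ _ pullback.condition U _).trans (Eq.trans ?_ (pr₂_id f _).symm)
  exact congrArg (_ ≫ ·) (Category.id_comp _)

theorem exists_square {U U₁ : X.Etale} {W₁ : X'.Etale} (g : U₁ ⟶ U) (b : W₁ ⟶ (EtCoh.bc f).obj U) (w : W₁.left)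
    (u : U₁.left) (hu : g.left u = (b.left ≫ pullback.fst U.hom f) w) :
    ∃ (W₂ : X'.Etale) (q : W₂ ⟶ W₁) (r : W₂ ⟶ (EtCoh.bc f).obj U₁)
      (w₂ : W₂.left), q.left w₂ = w ∧ r ≫ (EtCoh.bc f).map g = q ≫ b := by
  have : Etale g.left := etale_left g
  let P : X'.Etale :=
    have : Etale W₁.hom := W₁.prop
    Scheme.Etale.mk (pullback.fst (b.left ≫ pullback.fst U.hom f) g.left ≫ W₁.hom)
  obtain ⟨z, hz1, hz2⟩ := Scheme.Pullback.exists_preimage_pullback (f := b.left ≫ pullback.fst U.hom f)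
    (g := g.left) w u hu.symm
  let q : P ⟶ W₁ := MorphismProperty.Over.homMk (pullback.fst _ _) rfl trivial
  have hl : pullback.snd (b.left ≫ pullback.fst U.hom f) g.left ≫ U₁.hom =
      (pullback.fst (b.left ≫ pullback.fst U.hom f) g.left ≫ W₁.hom) ≫ f := by
    have h1 : g.left ≫ U.hom = U₁.hom := Over.w g.hom
    have h2 : b.left ≫ pullback.snd U.hom f = W₁.hom := Over.w b.hom
    rw [← h1, ← Category.assoc, ← pullback.condition]
    refine (Category.assoc _ _ _).trans (Eq.trans (congrArg (_ ≫ ·) ?_) (Category.assoc _ _ _).symm)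
    exact (Category.assoc _ _ _).trans ((congrArg (b.left ≫ ·) (pullback.condition (f := U.hom) (g := f))).trans
      ((Category.assoc _ _ _).symm.trans (congrArg (· ≫ f) h2)))
  let r : P ⟶ (EtCoh.bc f).obj U₁ :=
    MorphismProperty.Over.homMk (pullback.lift (pullback.snd _ _) _ hl) (pullback.lift_snd _ _ _) trivial
  refine ⟨P, q, r, z, hz1, ShDesc.bc_hom_ext f _ _ ?_⟩
  change (_ ≫ _) ≫ _ = (_ ≫ _) ≫ _
  refine (Category.assoc _ _ _).trans ((congrArg (r.left ≫ ·) (CohProp4.bc_map_fst f g)).trans ?_)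
  refine (Category.assoc _ _ _).symm.trans ((congrArg (· ≫ g.left) (pullback.lift_fst _ _ _)).trans ?_)
  exact pullback.condition.symm.trans (Category.assoc _ _ _).symm

theorem surj [Surjective f] (hφ : EtDesc.IsCocycle F' φ) (hb : IsIso (beta φ))
    (bc2 : Mono (EtBC.baseChange0Sh (pullback.snd f f ≫ f) f (EtDesc.q3 (f := f)) (EtDesc.p12 f)
      (isPullback_triple f).w ((EtDesc.pullSh (pullback.snd f f)).obj F')))
    (hag : ∀ (U : X.Etale) (σ : EtDesc.sect F U), A₁ φ U (ι.hom.app (op U) σ) = A₂ U (ι.hom.app (op U) σ))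
    (hlift : ∀ (U : X.Etale) (σ : EtDesc.sect ((EtDesc.pushSh f).obj F') U), A₁ φ U σ = A₂ U σ →
      ∃ τ, ι.hom.app (op U) τ = σ)
    (W : X'.Etale) (s : EtDesc.sect F' W) (x : W.left) :
    ∃ (W' : X'.Etale) (g : W' ⟶ W) (w : W'.left) (τ : EtDesc.sect ((EtDesc.pullSh f).obj F) W'),
      g.left w = x ∧ (((EtDesc.adjSh f).homEquiv F F').symm ι).hom.app (op W') τ = F'.obj.map g.op s := by
  let t := (inv (beta φ)).hom.app (op W) (pl (pullback.snd f f) F' s)
  have ht : (beta φ).hom.app (op W) t = pl (pullback.snd f f) F' s :=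
    congrArg (fun v : (EtDesc.pushSh (pullback.snd f f)).obj ((EtDesc.pullSh (pullback.snd f f)).obj F') ⟶
      (EtDesc.pushSh (pullback.snd f f)).obj ((EtDesc.pullSh (pullback.snd f f)).obj F') =>
      v.hom.app (op W) (pl (pullback.snd f f) F' s)) (IsIso.inv_hom_id (beta φ))
  obtain ⟨W₁, a, w, U, b, σ, hw, e⟩ := exists_local_pl f _ t x
  have hs : (beta φ).hom.app (op W₁) (((EtDesc.pullSh f).obj _).obj.map b.op (pl f _ σ)) =
      pl (pullback.snd f f) F' (F'.obj.map a.op s) := by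
    rw [← e, pl_map]
    refine (NatTrans.naturality_apply (beta φ).hom a.op t).trans ?_
    exact congrArg _ ht
  have hk := key φ hφ b σ (F'.obj.map a.op s) ((beta_pl φ b σ).symm.trans hs) bc2
  have hmem := (mem_eqLoc_map_pl_iff f b (A₁ φ U σ) (A₂ U σ) w).1 (by rw [hk]; exact eqLoc_self _ _ _)
  obtain ⟨U₁, g, u, hu, hg⟩ := hmem
  have hg' : (a₁ φ).hom.app (op U₁) (((EtDesc.pushSh f).obj F').obj.map g.op σ) =
      (a₂ (F' := F')).hom.app (op U₁) (((EtDesc.pushSh f).obj F').obj.map g.op σ) :=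
    (NatTrans.naturality_apply (a₁ φ).hom g.op σ).trans (hg.trans
      (NatTrans.naturality_apply (a₂ (F' := F')).hom g.op σ).symm)
  obtain ⟨τ₀, hτ₀⟩ := hlift U₁ (((EtDesc.pushSh f).obj F').obj.map g.op σ) hg'
  obtain ⟨W₂, q, r, w₂, hq, hcomm⟩ := exists_square g b w u hu
  refine ⟨W₂, q ≫ a, w₂, ((EtDesc.pullSh f).obj F).obj.map r.op (pl f F τ₀), ?_, ?_⟩
  · change a.left (q.left w₂) = x
    rw [hq, hw]
  have hη : Function.Injective (pl (pullback.snd f f) F' (U := W₂)) := fun σ' τ' h => eq_of_eqLoc F' fun y => by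
    obtain ⟨z, rfl⟩ := (pullback.fst W₂.hom (pullback.snd f f)).surjective y
    rw [← mem_eqLoc_pl_iff F' (pullback.snd f f) σ' τ' z, h]
    exact eqLoc_self _ _ _
  refine hη ((app_square (fac φ ι hag) W₂ _).symm.trans ?_)
  rw [pullMap_pl]
  refine (congrArg (fun z => (beta φ).hom.app (op W₂) (((EtDesc.pullSh f).obj _).obj.map r.op (pl f _ z))) hτ₀).trans ?_
  change (beta φ).hom.app (op W₂) (((EtDesc.pullSh f).obj _).obj.map r.op (pl f _
    (((EtDesc.pushSh f).obj F').obj.map g.op σ))) = _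
  rw [pl_map, map_map', hcomm, ← map_map', ← e, map_map']
  refine (NatTrans.naturality_apply (beta φ).hom (q ≫ a).op t).trans ?_
  exact (congrArg _ ht).trans (pl_map (pullback.snd f f) F' (q ≫ a) s).symm

theorem exists_e₂ (U : X.Etale) :
    ∃ e₂ : (EtCoh.bc (pullback.fst f f)).obj ((EtCoh.bc f).obj U) ⟶
        (EtCoh.bc (pullback.snd f f)).obj ((EtCoh.bc f).obj U),
      pr₂ f (pullback.fst f f) (𝟙 _) = pr₂ f (pullback.snd f f) e₂ := by
  obtain ⟨e₂, he₂⟩ := exists_lift f (pullback.snd f f) (U := U)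
    (W := (EtCoh.bc (pullback.fst f f)).obj ((EtCoh.bc f).obj U))
    (pr₂ f (pullback.fst f f) (𝟙 _)) (((exists_lift_bc f _ (𝟙 _))).trans
      (congrArg (_ ≫ ·) pullback.condition))
  exact ⟨e₂, he₂.symm⟩

theorem compat_pl' (ψ : (EtDesc.pullSh f).obj F ⟶ F')
    (hψ : ∀ (U : X.Etale) (σ : EtDesc.sect F U), ψ.hom.app (op ((EtCoh.bc f).obj U)) (pl f F σ) = ι.hom.app (op U) σ)
    (U : X.Etale) (σ : EtDesc.sect F U) (hag : A₁ φ U (ι.hom.app (op U) σ) = A₂ U (ι.hom.app (op U) σ))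
    (e₂ : (EtCoh.bc (pullback.fst f f)).obj ((EtCoh.bc f).obj U) ⟶
      (EtCoh.bc (pullback.snd f f)).obj ((EtCoh.bc f).obj U))
    (he : pr₂ f (pullback.fst f f) (𝟙 _) = pr₂ f (pullback.snd f f) e₂) :
    ((EtDesc.canIso f F).hom ≫ (EtDesc.pullSh (pullback.snd f f)).map ψ).hom.app
        (op ((EtCoh.bc (pullback.fst f f)).obj ((EtCoh.bc f).obj U))) (pl (pullback.fst f f) _ (pl f F σ)) =
      ((EtDesc.pullSh (pullback.fst f f)).map ψ ≫ φ.hom).hom.app
        (op ((EtCoh.bc (pullback.fst f f)).obj ((EtCoh.bc f).obj U))) (pl (pullback.fst f f) _ (pl f F σ)) :=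
  comp_apply_eq
    ((congrArg _ (map_self _ _ (pl (pullback.fst f f) _ (pl f F σ))).symm).trans (canIso_pl f F U σ _ e₂ he))
    ((pullMap_pl (pullback.snd f f) ψ e₂ (pl f F σ)).trans
      (congrArg (fun z => ((EtDesc.pullSh (pullback.snd f f)).obj F').obj.map e₂.op (pl (pullback.snd f f) F' z))
        (hψ U σ)))
    ((pl_app (pullback.fst f f) ψ (pl f F σ)).trans
      ((congrArg (pl (pullback.fst f f) F') (hψ U σ)).trans (map_self _ _ _).symm))
    (agree_apply φ hag _ e₂ he)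

theorem compat (hag : ∀ (U : X.Etale) (σ : EtDesc.sect F U), A₁ φ U (ι.hom.app (op U) σ) = A₂ U (ι.hom.app (op U) σ)) :
    (EtDesc.canIso f F).hom ≫ (EtDesc.pullSh (pullback.snd f f)).map (((EtDesc.adjSh f).homEquiv F F').symm ι) =
      (EtDesc.pullSh (pullback.fst f f)).map (((EtDesc.adjSh f).homEquiv F F').symm ι) ≫ φ.hom :=
  hom_ext_pl₂ f (pullback.fst f f) fun U σ =>
    (exists_e₂ U).elim fun e₂ he => compat_pl' φ ι _ (transpose_pl ι) U σ (hag U σ) e₂ he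

theorem isEffective_of_sub [Surjective f] (hφ : EtDesc.IsCocycle F' φ) (hb : IsIso (beta φ))
    (bc2 : Mono (EtBC.baseChange0Sh (pullback.snd f f ≫ f) f (EtDesc.q3 (f := f)) (EtDesc.p12 f)
      (isPullback_triple f).w ((EtDesc.pullSh (pullback.snd f f)).obj F'))) [Mono ι]
    (hag : ∀ (U : X.Etale) (σ : EtDesc.sect F U), A₁ φ U (ι.hom.app (op U) σ) = A₂ U (ι.hom.app (op U) σ))
    (hlift : ∀ (U : X.Etale) (σ : EtDesc.sect ((EtDesc.pushSh f).obj F') U), A₁ φ U σ = A₂ U σ →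
      ∃ τ, ι.hom.app (op U) τ = σ) :
    EtDesc.IsEffective f F' φ := by
  have hsurj := surj φ ι hφ hb bc2 hag hlift
  have hc := compat φ ι hag
  have hf' := fac φ ι hag
  generalize ((EtDesc.adjSh f).homEquiv F F').symm ι = ψ at hsurj hc hf'
  have := EtSets93.mono_pullSh f ι
  have : Mono (ψ ≫ (EtDesc.adjSh (pullback.snd f f)).unit.app F') :=
    hf' ▸ (inferInstance : Mono ((EtDesc.pullSh f).map ι ≫ beta φ))
  have : Mono ψ := mono_of_mono ψ ((EtDesc.adjSh (pullback.snd f f)).unit.app F')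
  have hiso : IsIso ψ := by
    refine An92.EtSets.isIso_of_stalks_sets _ fun K _ _ η => ⟨?_, fun γ => ?_⟩
    · exact injective_stalk η ψ
    · obtain ⟨W, t, s, rfl⟩ := exists_gs η F' γ
      obtain ⟨W', g, w, τ, hw, e⟩ := hsurj W s (hom η t default)
      obtain ⟨t', h1, -⟩ := exists_lift_pt g t w hw
      exact ⟨gs η _ t' τ, by rw [gs_natural, e, gs_map, h1]⟩
  refine ⟨F, asIso ψ, Iso.ext ?_⟩
  change (EtDesc.pullSh (pullback.fst f f)).map (inv ψ) ≫ (EtDesc.canIso f F).hom ≫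
    (EtDesc.pullSh (pullback.snd f f)).map ψ = φ.hom
  rw [hc, ← Category.assoc, ← Functor.map_comp, IsIso.inv_hom_id, CategoryTheory.Functor.map_id, Category.id_comp]

omit ι in
/-- A descent datum is effective when direct images along `f` commute with base change. -/
theorem isEffective_of_baseChange [Surjective f] (hφ : EtDesc.IsCocycle F' φ)
    (bc1 : IsIso (EtBC.baseChange0Sh f f (pullback.snd f f) (pullback.fst f f) pullback.condition F'))
    (bc2 : Mono (EtBC.baseChange0Sh (pullback.snd f f ≫ f) f (EtDesc.q3 (f := f)) (EtDesc.p12 f)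
      (isPullback_triple f).w ((EtDesc.pullSh (pullback.snd f f)).obj F'))) :
    EtDesc.IsEffective f F' φ :=
  have : Mono (equalizer.ι (a₁ φ) (a₂ (F' := F'))) := equalizer.ι_mono
  isEffective_of_sub φ (equalizer.ι (a₁ φ) (a₂ (F' := F'))) hφ (@IsIso.comp_isIso _ _ _ _ _ _ _ bc1 inferInstance) bc2
    (fun U σ => congrArg (fun v : equalizer (a₁ φ) (a₂ (F' := F')) ⟶ (EtDesc.pushSh (pullback.snd f f ≫ f)).obj
      ((EtDesc.pullSh (pullback.snd f f)).obj F') => v.hom.app (op U) σ) (equalizer.condition (a₁ φ) a₂))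
    (fun U σ h => by
      let ev := sheafToPresheaf X.smallEtaleTopology (Type (u + 1)) ⋙ (evaluation _ _).obj (op U)
      have hc := isLimitForkMapOfIsLimit ev (equalizer.condition (a₁ φ) (a₂ (F' := F'))) (equalizerIsEqualizer _ _)
      obtain ⟨τ₀, hτ₀, -⟩ := Types.unique_of_type_equalizer _ _ hc _ h
      exact ⟨τ₀, hτ₀⟩)

end Groth.Agent.Unr55.ShDesc.Eff
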