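import Groth.Agent.Unr55.ShDesc.Hom
import Mathlib.CategoryTheory.Limits.Types.Pullbacks
import Mathlib.CategoryTheory.Sites.Limits

/-! Descent of subsheaves along universally submersive morphisms. -/

universe u

open CategoryTheory CategoryTheory.Limits AlgebraicGeometry Opposite

set_option autoImplicit false
set_option backward.isDefEq.respectTransparency.types false

namespace Groth.Agent.Unr55.ShDesc

open Groth.Agent.CohProp4 Groth.Agent.Unr55.EtSh Groth.Agent.An92.EtSets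

variable {T X' X : Scheme.{u}}

theorem pullVia_natural {S : Scheme.{u}} (g : T ⟶ S) (a : S ⟶ X) (b : T ⟶ X) (w : g ≫ a = b) {F G : EtDesc.Sh X}
    (u : F ⟶ G) :
    (EtDesc.pullSh g).map ((EtDesc.pullSh a).map u) ≫ (EtDesc.pullVia g a b w G).hom =
      (EtDesc.pullVia g a b w F).hom ≫ (EtDesc.pullSh b).map u :=
  ((EtDesc.pullCompSh g a).symm ≪≫ EtDesc.pullCongrSh w).hom.naturality u

theorem canIso_natural (f : X' ⟶ X) {F G : EtDesc.Sh X} (u : F ⟶ G) :
    (EtDesc.pullSh (pullback.fst f f)).map ((EtDesc.pullSh f).map u) ≫ (EtDesc.canIso f G).hom =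
      (EtDesc.canIso f F).hom ≫ (EtDesc.pullSh (pullback.snd f f)).map ((EtDesc.pullSh f).map u) := by
  have h1 := pullVia_natural (pullback.fst f f) f (pullback.fst f f ≫ f) rfl u
  have h2 := pullVia_natural (pullback.snd f f) f (pullback.fst f f ≫ f) pullback.condition.symm u
  have h2' : (EtDesc.pullSh (pullback.fst f f ≫ f)).map u ≫
      (EtDesc.pullVia (pullback.snd f f) f (pullback.fst f f ≫ f) pullback.condition.symm G).inv =
      (EtDesc.pullVia (pullback.snd f f) f (pullback.fst f f ≫ f) pullback.condition.symm F).inv ≫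
        (EtDesc.pullSh (pullback.snd f f)).map ((EtDesc.pullSh f).map u) :=
    (Iso.comp_inv_eq _).2 (((Category.assoc _ _ _).trans
      ((congrArg (_ ≫ ·) h2).trans (Iso.inv_hom_id_assoc _ _))).symm)
  rw [canIso_eq, canIso_eq, Iso.trans_hom, Iso.trans_hom, Iso.symm_hom, Iso.symm_hom, ← Category.assoc, h1,
    Category.assoc, h2', Category.assoc]

theorem injective_uniqueness (f : X' ⟶ X) (hf : EtDesc.IsUnivSubmersive f) {F G₁ G₂ : EtDesc.Sh X}
    (a₁ : G₁ ⟶ F) (a₂ : G₂ ⟶ F) [Mono a₂] (a : (EtDesc.pullSh f).obj G₁ ⟶ (EtDesc.pullSh f).obj G₂)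
    (h : a ≫ (EtDesc.pullSh f).map a₂ = (EtDesc.pullSh f).map a₁) :
    ∃ b : G₁ ⟶ G₂, (EtDesc.pullSh f).map b = a ∧ b ≫ a₂ = a₁ := by
  have := EtSets93.mono_pullSh f a₂
  have := EtSets93.mono_pullSh (pullback.snd f f) ((EtDesc.pullSh f).map a₂)
  have ha : (EtDesc.canIso f G₁).hom ≫ (EtDesc.pullSh (pullback.snd f f)).map a =
      (EtDesc.pullSh (pullback.fst f f)).map a ≫ (EtDesc.canIso f G₂).hom := by
    rw [← cancel_mono ((EtDesc.pullSh (pullback.snd f f)).map ((EtDesc.pullSh f).map a₂))]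
    rw [Category.assoc, ← Functor.map_comp, h, Category.assoc, ← canIso_natural, ← canIso_natural,
      ← Category.assoc, ← Functor.map_comp, h]
  obtain ⟨b, hb, -⟩ := existsUnique_hom f hf a ha
  exact ⟨b, hb, pullSh_map_injective f hf (by rw [Functor.map_comp, hb, h])⟩

/-- The locus where a section comes locally from a subsheaf. -/
def locIm {G H : EtDesc.Sh X} (a : G ⟶ H) {U : X.Etale} (x : EtDesc.sect H U) : Set U.left :=
  {z | ∃ (W : X.Etale) (g : W ⟶ U) (w : W.left) (τ : EtDesc.sect G W),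
    g.left w = z ∧ a.hom.app (op W) τ = H.obj.map g.op x}

theorem isOpen_locIm {G H : EtDesc.Sh X} (a : G ⟶ H) {U : X.Etale} (x : EtDesc.sect H U) :
    IsOpen (locIm a x) := by
  rw [isOpen_iff_forall_mem_open]
  rintro z ⟨W, g, w, τ, rfl, e⟩
  exact ⟨Set.range g.left, fun y ⟨v, hv⟩ => ⟨W, g, v, τ, hv, e⟩, isOpen_range_left g, w, rfl⟩

theorem mem_locIm_iff {G H : EtDesc.Sh X} (a : G ⟶ H) {U : X.Etale} (x : EtDesc.sect H U)
    {Ω : Type u} [Field Ω] [IsSepClosed Ω] (η : Spec (CommRingCat.of Ω) ⟶ X) (t : Pt η U) :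
    hom η t default ∈ locIm a x ↔ gs η H t x ∈ Set.range ((stalkSh η).map a) := by
  constructor
  · rintro ⟨W, g, w, τ, hw, e⟩
    obtain ⟨t', h1, -⟩ := exists_lift_pt g t w hw
    exact ⟨gs η G t' τ, by rw [gs_natural, e, gs_map, h1]⟩
  · rintro ⟨γ, hγ⟩
    obtain ⟨U₁, t₁, τ, rfl⟩ := exists_gs η G γ
    rw [gs_natural] at hγ
    obtain ⟨W, p, q, w, h1, -, e⟩ := exists_of_gs_eq η H t t₁ x _ hγ.symm
    exact ⟨W, p, hom η w default, G.obj.map q.op τ, congrArg (fun r => hom η r default) h1,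
      (NatTrans.naturality_apply a.hom q.op τ).trans e.symm⟩

theorem mem_range_pl_iff {S : Scheme.{u}} (p : T ⟶ S) {G H : EtDesc.Sh S} (a : G ⟶ H) {U : S.Etale}
    (x : EtDesc.sect H U) {Ω : Type u} [Field Ω] [IsSepClosed Ω] (η : Spec (CommRingCat.of Ω) ⟶ T)
    (t : Pt η ((EtCoh.bc p).obj U)) :
    gs η _ t (pl p H x) ∈ Set.range ((stalkSh η).map ((EtDesc.pullSh p).map a)) ↔
      gs (η ≫ p) H (ptDown p η t) x ∈ Set.range ((stalkSh (η ≫ p)).map a) := by
  constructor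
  · rintro ⟨γ, hγ⟩
    obtain ⟨U₁, t₁, τ, rfl⟩ := exists_gs_pl p η G γ
    rw [gs_natural, pl_app] at hγ
    refine ⟨gs (η ≫ p) G t₁ τ, ?_⟩
    rw [gs_natural, ← gs_pl_eq_iff p η, ptUp_ptDown]
    exact hγ
  · rintro ⟨γ, hγ⟩
    obtain ⟨U₁, t₁, τ, rfl⟩ := exists_gs (η ≫ p) G γ
    rw [gs_natural, ← gs_pl_eq_iff p η, ptUp_ptDown] at hγ
    exact ⟨gs η _ (ptUp p η t₁) (pl p G τ), by rw [gs_natural, pl_app]; exact hγ⟩

theorem exists_of_locIm {G H : EtDesc.Sh X} (a : G ⟶ H) [Mono a] {U : X.Etale} (x : EtDesc.sect H U)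
    (h : ∀ z, z ∈ locIm a x) : ∃ τ, a.hom.app (op U) τ = x := by
  choose W g w τ hw e using h
  obtain ⟨σ, hσ⟩ := exists_glue G W g (fun z => ⟨z, w z, hw z⟩) τ fun i j Z gi gj hg z => by
    have : G.obj.map gi.op (τ i) = G.obj.map gj.op (τ j) := by
      refine EtSets93.injective_app a Z ?_
      rw [NatTrans.naturality_apply a.hom gi.op, NatTrans.naturality_apply a.hom gj.op, e, e,
        ← Functor.map_comp_apply, ← Functor.map_comp_apply, ← op_comp, ← op_comp, hg]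
    rw [this]
    exact eqLoc_self _ _ _
  refine ⟨σ, eq_of_eqLoc _ fun z => ?_⟩
  have := (mem_eqLoc_map_iff H (g z) (a.hom.app (op U) σ) x (w z)).1 (by
    rw [← e, ← NatTrans.naturality_apply a.hom (g z).op, hσ]
    exact eqLoc_self _ _ _)
  rwa [hw] at this

variable (f : X' ⟶ X) {F : EtDesc.Sh X} {G' : EtDesc.Sh X'} (a' : G' ⟶ (EtDesc.pullSh f).obj F)

theorem stalk_square {A B C D : EtDesc.Sh T} {u : A ⟶ B} {v : B ⟶ D} {w : A ⟶ C} {z : C ⟶ D}
    (h : u ≫ v = w ≫ z) {Ω : Type u} [Field Ω] [IsSepClosed Ω] (η : Spec (CommRingCat.of Ω) ⟶ T)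
    (x : (stalkSh η).obj A) :
    (stalkSh η).map v ((stalkSh η).map u x) = (stalkSh η).map z ((stalkSh η).map w x) := by
  have e := congrArg (fun m : A ⟶ D => (stalkSh η).map m x) h
  rw [Functor.map_comp, Functor.map_comp] at e
  exact e

theorem stalk_transfer {A₁ A₂ B₁ B₂ : EtDesc.Sh T} {u₁ : A₁ ⟶ B₁} {u₂ : A₂ ⟶ B₂}
    (φ : A₁ ⟶ A₂) (c : B₁ ⟶ B₂) (h : φ ≫ u₂ = u₁ ≫ c) {W : T.Etale} (x : EtDesc.sect B₁ W)
    {Ω : Type u} [Field Ω] [IsSepClosed Ω] (η : Spec (CommRingCat.of Ω) ⟶ T) (t : Pt η W)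
    (hx : gs η B₁ t x ∈ Set.range ((stalkSh η).map u₁)) :
    gs η B₂ t (c.hom.app (op W) x) ∈ Set.range ((stalkSh η).map u₂) := by
  obtain ⟨γ, hγ⟩ := hx
  refine ⟨(stalkSh η).map φ γ, ?_⟩
  rw [stalk_square h, hγ, gs_natural]

theorem saturated (φ : (EtDesc.pullSh (pullback.fst f f)).obj G' ⟶ (EtDesc.pullSh (pullback.snd f f)).obj G')
    (hφ : φ ≫ (EtDesc.pullSh (pullback.snd f f)).map a' =
      (EtDesc.pullSh (pullback.fst f f)).map a' ≫ (EtDesc.canIso f F).hom)
    {V : X.Etale} (σ : EtDesc.sect F V) (y y' : ((EtCoh.bc f).obj V).left)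
    (hy : pullback.fst V.hom f y = pullback.fst V.hom f y') (hm : y ∈ locIm a' (pl f F σ)) :
    y' ∈ locIm a' (pl f F σ) := by
  let b := pullback.fst f f ≫ f
  let e₁ := toBcBc f (pullback.fst f f) b rfl V
  let e₂ := toBcBc f (pullback.snd f f) b pullback.condition.symm V
  have he : (e₁.left ≫ pullback.fst _ (pullback.fst f f)) ≫ pullback.fst V.hom f =
      (e₂.left ≫ pullback.fst _ (pullback.snd f f)) ≫ pullback.fst V.hom f := by
    rw [toBcBc_fst, toBcBc_fst]
    exact (pullback.lift_fst _ _ _).trans (pullback.lift_fst _ _ _).symm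
  obtain ⟨z, hz1, hz2⟩ := exists_pair f V y y' hy
  obtain ⟨K, _, _, η, t, rfl⟩ := point_over ((EtCoh.bc b).obj V) z
  let t₁ := ptDown (pullback.fst f f) η ((Scheme.pointSmallEtale η).fiber.map e₁ t)
  let t₂ := ptDown (pullback.snd f f) η ((Scheme.pointSmallEtale η).fiber.map e₂ t)
  have ht₁ : hom _ t₁ default = y := hz1
  have ht₂ : hom _ t₂ default = y' := hz2
  rw [← ht₁, mem_locIm_iff, ← mem_range_pl_iff, ← gs_map] at hm
  have h := stalk_transfer φ _ hφ _ η t hm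
  rw [canIso_pl f F V σ e₁ e₂ he, gs_map, mem_range_pl_iff, ← mem_locIm_iff] at h
  exact ht₂ ▸ h

theorem exists_subsheaf (hf : EtDesc.IsUnivSubmersive f) [Mono a']
    (φ : (EtDesc.pullSh (pullback.fst f f)).obj G' ⟶ (EtDesc.pullSh (pullback.snd f f)).obj G')
    (hφ : φ ≫ (EtDesc.pullSh (pullback.snd f f)).map a' =
      (EtDesc.pullSh (pullback.fst f f)).map a' ≫ (EtDesc.canIso f F).hom) :
    ∃ (G : EtDesc.Sh X) (a : G ⟶ F) (_ : Mono a) (ψ : (EtDesc.pullSh f).obj G ≅ G'),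
      ψ.hom ≫ a' = (EtDesc.pullSh f).map a := by
  have : Mono ((EtDesc.pushSh f).map a') := EtSets93.mono_of_injective_app _
    fun U => EtSets93.injective_app a' ((EtCoh.bc f).obj U)
  let η := (EtDesc.adjSh f).unit.app F
  let G := pullback η ((EtDesc.pushSh f).map a')
  let a : G ⟶ F := pullback.fst η _
  let ψ : (EtDesc.pullSh f).obj G ⟶ G' := ((EtDesc.adjSh f).homEquiv G G').symm (pullback.snd η _)
  have hψ : ∀ (U : X.Etale) (σ : EtDesc.sect G U),
      ψ.hom.app (op ((EtCoh.bc f).obj U)) (pl f G σ) = (pullback.snd η ((EtDesc.pushSh f).map a')).hom.app (op U) σ :=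
    fun U σ => congrArg (fun m : G ⟶ (EtDesc.pushSh f).obj G' => m.hom.app (op U) σ)
      (((EtDesc.adjSh f).homEquiv_unit _ _ _).symm.trans (Equiv.apply_symm_apply _ _))
  have hcomp : ψ ≫ a' = (EtDesc.pullSh f).map a := pullSh_hom_ext f fun U σ => by
    refine (congrArg (a'.hom.app (op ((EtCoh.bc f).obj U))) (hψ U σ)).trans ?_
    refine Eq.trans ?_ (pl_app f a σ).symm
    exact (app_square (T := X) (pullback.condition (f := η) (g := (EtDesc.pushSh f).map a')) U σ).symm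
  have := EtSets93.mono_pullSh f a
  have : Mono ψ := by
    have : Mono (ψ ≫ a') := hcomp ▸ inferInstance
    exact mono_of_mono ψ a'
  have : Epi ψ := EtSets93.epi_of_local ψ fun U' t x => by
    obtain ⟨W, k, w, V, b, σ, hw, e⟩ := exists_local_pl f F (a'.hom.app (op U') t) x
    let M := locIm a' (pl f F σ)
    have hM : pullback.fst V.hom f ⁻¹' (pullback.fst V.hom f '' M) = M := by
      refine Set.Subset.antisymm (fun y' hy' => ?_) (Set.subset_preimage_image _ _)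
      obtain ⟨y, hy, hyy⟩ := hy'
      exact saturated f a' φ hφ σ y y' hyy hy
    let O : V.left.Opens := ⟨pullback.fst V.hom f '' M,
      (isQuotientMap_fst f hf V).isOpen_preimage.1 (hM.symm ▸ isOpen_locIm a' _)⟩
    have hwM : b.left w ∈ M := ⟨W, b, w, G'.obj.map k.op t, rfl,
      (NatTrans.naturality_apply a'.hom k.op t).trans e⟩
    let ι := openSubι V O
    let σB := F.obj.map ι.op σ
    obtain ⟨τ, hτ⟩ := exists_of_locIm a' (pl f F σB) fun z => by
      have hz : ((EtCoh.bc f).map ι).left z ∈ M := hM.subset <| by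
        refine Set.mem_preimage.2 ?_
        have hz' : pullback.fst V.hom f (((EtCoh.bc f).map ι).left z) =
            ι.left (pullback.fst (openSub V O).hom f z) :=
          congrArg (fun k : _ ⟶ V.left => k z) (bc_map_fst f ι)
        exact hz'.symm ▸ (range_openSubι V O).subset ⟨_, rfl⟩
      obtain ⟨K, _, _, η, t, rfl⟩ := point_over ((EtCoh.bc f).obj (openSub V O)) z
      rw [mem_locIm_iff, pl_map, gs_map, ← mem_locIm_iff]
      exact hz
    obtain ⟨σG, hσ1, hσ2⟩ := Types.exists_of_isPullback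
      ((IsPullback.of_hasPullback η ((EtDesc.pushSh f).map a')).map
        (sheafToPresheaf X.smallEtaleTopology (Type (u + 1)) ⋙ (evaluation _ _).obj (op (openSub V O))))
      σB τ hτ.symm
    let O' : W.left.Opens := (b.left ≫ pullback.fst V.hom f) ⁻¹ᵁ O
    have hr : Set.range (O'.ι ≫ b.left ≫ pullback.fst V.hom f) ⊆ Set.range O.ι := by
      rw [O.range_ι]
      rintro _ ⟨v, rfl⟩
      exact v.2
    let l := IsOpenImmersion.lift O.ι (O'.ι ≫ b.left ≫ pullback.fst V.hom f) hr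
    have hl : l ≫ O.ι = O'.ι ≫ b.left ≫ pullback.fst V.hom f := IsOpenImmersion.lift_fac _ _ _
    let b' : openSub W O' ⟶ (EtCoh.bc f).obj (openSub V O) := MorphismProperty.Over.homMk
      (pullback.lift l (openSub W O').hom (by
        refine ((Category.assoc _ _ _).symm.trans (congrArg (· ≫ V.hom) hl)).trans ?_
        refine ((Category.assoc _ _ _).trans (congrArg (O'.ι ≫ ·) ?_)).trans (Category.assoc _ _ _).symm
        exact (Category.assoc _ _ _).trans ((congrArg (b.left ≫ ·) pullback.condition).trans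
          ((Category.assoc _ _ _).symm.trans (congrArg (· ≫ f) (Over.w b.hom))))))
      (pullback.lift_snd _ _ _) trivial
    have hb' : b' ≫ (EtCoh.bc f).map ι = openSubι W O' ≫ b := bc_hom_ext f _ _ <| by
      refine ((Category.assoc _ _ _).trans (congrArg (b'.left ≫ ·) (bc_map_fst f ι))).trans ?_
      refine ((Category.assoc _ _ _).symm.trans (congrArg (· ≫ O.ι) (pullback.lift_fst _ _ _))).trans ?_
      exact hl.trans (Category.assoc _ _ _).symm
    obtain ⟨v, hv⟩ : w ∈ Set.range (openSubι W O').left :=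
      (range_openSubι W O').symm ▸ (⟨b.left w, hwM, rfl⟩ : (b.left ≫ pullback.fst V.hom f) w ∈ O)
    refine ⟨openSub W O', openSubι W O' ≫ k,
      ((EtDesc.pullSh f).obj G).obj.map b'.op (pl f G σG), v, ?_, ?_⟩
    · rw [NatTrans.naturality_apply ψ.hom b'.op, hψ]
      refine EtSets93.injective_app a' (openSub W O') ?_
      rw [NatTrans.naturality_apply a'.hom b'.op, NatTrans.naturality_apply a'.hom (openSubι W O' ≫ k).op]
      refine (congrArg _ (congrArg (a'.hom.app (op _)) hσ2)).trans ?_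
      rw [hτ, op_comp, Functor.map_comp_apply, e]
      simp only [σB, pl_map]
      rw [← Functor.map_comp_apply, ← op_comp, hb', op_comp, Functor.map_comp_apply]
    · rw [← hw, ← hv]
      rfl
  have := isIso_of_mono_of_epi ψ
  exact ⟨G, a, inferInstance, asIso ψ, hcomp⟩

theorem subsheaf_descent (hf : EtDesc.IsUnivSubmersive f) (F : EtDesc.Sh X) :
    (∀ (G₁ G₂ : EtDesc.Sh X) (a₁ : G₁ ⟶ F) (a₂ : G₂ ⟶ F) [Mono a₁] [Mono a₂],
      (∃ φ : (EtDesc.pullSh f).obj G₁ ≅ (EtDesc.pullSh f).obj G₂,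
          φ.hom ≫ (EtDesc.pullSh f).map a₂ = (EtDesc.pullSh f).map a₁) →
      ∃ ψ : G₁ ≅ G₂, ψ.hom ≫ a₂ = a₁) ∧
    (∀ (G' : EtDesc.Sh X') (a' : G' ⟶ (EtDesc.pullSh f).obj F) [Mono a'],
      (∃ φ : (EtDesc.pullSh (pullback.fst f f)).obj G' ≅ (EtDesc.pullSh (pullback.snd f f)).obj G',
          φ.hom ≫ (EtDesc.pullSh (pullback.snd f f)).map a' =
            (EtDesc.pullSh (pullback.fst f f)).map a' ≫ (EtDesc.canIso f F).hom) →
      ∃ (G : EtDesc.Sh X) (a : G ⟶ F) (_ : Mono a) (ψ : (EtDesc.pullSh f).obj G ≅ G'),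
        ψ.hom ≫ a' = (EtDesc.pullSh f).map a) := by
  refine ⟨fun G₁ G₂ a₁ a₂ _ _ ⟨φ, hφ⟩ => ?_, fun G' a' _ ⟨φ, hφ⟩ => exists_subsheaf f a' hf φ.hom hφ⟩
  obtain ⟨b, hb, hba⟩ := injective_uniqueness f hf a₁ a₂ φ.hom hφ
  obtain ⟨c, hc, -⟩ := injective_uniqueness f hf a₂ a₁ φ.inv (by rw [Iso.inv_comp_eq, hφ])
  exact ⟨⟨b, c, pullSh_map_injective f hf (by rw [Functor.map_comp, hb, hc, φ.hom_inv_id]; exact ((EtDesc.pullSh f).map_id _).symm),
    pullSh_map_injective f hf (by rw [Functor.map_comp, hb, hc, φ.inv_hom_id]; exact ((EtDesc.pullSh f).map_id _).symm)⟩, hba⟩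

end Groth.Agent.Unr55.ShDesc
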