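import Groth.Agent.CohProp4.Locus

/-! The canonical identifications of iterated inverse images of sheaves of sets on pulled back sections. -/

universe u

open CategoryTheory CategoryTheory.Limits AlgebraicGeometry Opposite

set_option autoImplicit false
set_option backward.isDefEq.respectTransparency.types false

namespace Groth.Agent.Unr55.ShDesc

open Groth.Agent.CohProp4 Groth.Agent.Unr55.EtSh

variable {T S X : Scheme.{u}}

/-- Morphisms into a base change are determined by the first projection. -/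
theorem bc_hom_ext (f : S ⟶ X) {U : X.Etale} {W : S.Etale} (p q : W ⟶ (EtCoh.bc f).obj U)
    (h : p.left ≫ pullback.fst U.hom f = q.left ≫ pullback.fst U.hom f) : p = q :=
  MorphismProperty.Over.Hom.ext (pullback.hom_ext h ((Over.w p.hom).trans (Over.w q.hom).symm))

/-- The comparison of an iterated base change with the base change along the composite. -/
noncomputable def cmp (g : T ⟶ S) (f : S ⟶ X) (U : X.Etale) :
    (EtCoh.bc (g ≫ f)).obj U ⟶ (EtCoh.bc g).obj ((EtCoh.bc f).obj U) :=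
  (MorphismProperty.Over.pullbackComp (P := EtCoh.etaleMP) (Q := ⊤) g f).hom.app U

theorem cmp_fst (g : T ⟶ S) (f : S ⟶ X) (U : X.Etale) :
    ((cmp g f U).left ≫ pullback.fst _ g) ≫ pullback.fst U.hom f = pullback.fst U.hom (g ≫ f) := by
  simp [cmp, MorphismProperty.Over.pullbackComp, EtCoh.bc]
  exact (Category.id_comp _).trans (pullbackLeftPullbackSndIso_inv_fst _ _ _)

theorem pullCompSh_pl (g : T ⟶ S) (f : S ⟶ X) (F : EtDesc.Sh X) (U : X.Etale) (σ : EtDesc.sect F U) :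
    ((EtDesc.pullCompSh g f).hom.app F).hom.app (op ((EtCoh.bc (g ≫ f)).obj U)) (pl (g ≫ f) F σ) =
      ((EtDesc.pullSh g).obj ((EtDesc.pullSh f).obj F)).obj.map (cmp g f U).op
        (pl g ((EtDesc.pullSh f).obj F) (pl f F σ)) := by
  have h := Adjunction.unit_leftAdjointUniq_hom_app (EtDesc.adjSh (g ≫ f))
    (((EtDesc.adjSh f).comp (EtDesc.adjSh g)).ofNatIsoRight (EtDesc.pushCompSh f g)) F
  have h' := congrArg (fun v : F ⟶ (EtDesc.pushSh (g ≫ f)).obj ((EtDesc.pullSh g).obj ((EtDesc.pullSh f).obj F)) =>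
    v.hom.app (op U) σ) h
  refine h'.trans ?_
  rfl

theorem pullCongrSh_pl {f f' : S ⟶ X} (w : f = f') (F : EtDesc.Sh X) (U : X.Etale) (σ : EtDesc.sect F U)
    {W : S.Etale} (p : W ⟶ (EtCoh.bc f).obj U) (q : W ⟶ (EtCoh.bc f').obj U)
    (h : p.left ≫ pullback.fst U.hom f = q.left ≫ pullback.fst U.hom f') :
    ((EtDesc.pullCongrSh w).hom.app F).hom.app (op W)
        (((EtDesc.pullSh f).obj F).obj.map p.op (pl f F σ)) =
      ((EtDesc.pullSh f').obj F).obj.map q.op (pl f' F σ) := by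
  subst w
  obtain rfl := bc_hom_ext f p q h
  rfl

/-- `pullVia` on doubly pulled back sections. -/
theorem pullVia_pl (g : T ⟶ S) (a : S ⟶ X) (b : T ⟶ X) (w : g ≫ a = b) (F : EtDesc.Sh X) (U : X.Etale)
    (σ : EtDesc.sect F U) {W : T.Etale} (e : W ⟶ (EtCoh.bc g).obj ((EtCoh.bc a).obj U))
    (d : W ⟶ (EtCoh.bc b).obj U)
    (h : (e.left ≫ pullback.fst _ g) ≫ pullback.fst U.hom a = d.left ≫ pullback.fst U.hom b) :
    (EtDesc.pullVia g a b w F).hom.hom.app (op W)
        (((EtDesc.pullSh g).obj ((EtDesc.pullSh a).obj F)).obj.map e.op (pl g _ (pl a F σ))) =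
      ((EtDesc.pullSh b).obj F).obj.map d.op (pl b F σ) := by
  subst w
  obtain rfl : e = d ≫ cmp g a U := by
    refine bc_hom_ext g _ _ (pullback.hom_ext ?_ ?_)
    · refine h.trans ((congrArg (d.left ≫ ·) (cmp_fst g a U)).symm.trans ?_)
      exact (Category.assoc _ _ _).symm.trans (congrArg (· ≫ pullback.fst U.hom a) (Category.assoc _ _ _).symm)
    · refine Eq.trans ?_ (Eq.trans (congrArg (· ≫ g) ((Over.w e.hom).trans (Over.w (d ≫ cmp g a U).hom).symm)) ?_)
      · refine (Category.assoc _ _ _).trans (Eq.trans ?_ (Category.assoc _ _ _).symm)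
        exact congrArg (e.left ≫ ·) pullback.condition
      · refine (Category.assoc _ _ _).trans (Eq.trans ?_ (Category.assoc _ _ _).symm)
        exact congrArg ((d ≫ cmp g a U).left ≫ ·) pullback.condition.symm
  rw [op_comp, Functor.map_comp]
  let ι := (EtDesc.pullCompSh g a).app F
  have e1 := NatTrans.naturality_apply ι.inv.hom d.op
    (((EtDesc.pullSh g).obj ((EtDesc.pullSh a).obj F)).obj.map (cmp g a U).op (pl g _ (pl a F σ)))
  have e2 : ι.inv.hom.app (op ((EtCoh.bc (g ≫ a)).obj U))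
      (((EtDesc.pullSh g).obj ((EtDesc.pullSh a).obj F)).obj.map (cmp g a U).op (pl g _ (pl a F σ))) =
        pl (g ≫ a) F σ := by
    rw [← pullCompSh_pl g a F U σ]
    exact congrArg (fun v : (EtDesc.pullSh (g ≫ a)).obj F ⟶ _ => v.hom.app _ (pl (g ≫ a) F σ)) ι.hom_inv_id
  refine (congrArg (fun y => ((EtDesc.pullCongrSh rfl).hom.app F).hom.app (op W) y) e1).trans ?_
  refine Eq.trans ?_ (pullCongrSh_pl rfl F U σ d d rfl)
  exact congrArg (fun y => ((EtDesc.pullCongrSh rfl).hom.app F).hom.app (op W)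
    (((EtDesc.pullSh (g ≫ a)).obj F).obj.map d.op y)) e2

theorem trans_symm_apply {A B C : EtDesc.Sh T} (i : A ≅ B) (j : C ≅ B) (W : T.Etale) (x : EtDesc.sect A W)
    (y : EtDesc.sect C W) (h : i.hom.hom.app (op W) x = j.hom.hom.app (op W) y) :
    (i ≪≫ j.symm).hom.hom.app (op W) x = y :=
  (congrArg (fun z => j.inv.hom.app (op W) z) h).trans
    (congrArg (fun v : C ⟶ C => v.hom.app (op W) y) j.hom_inv_id)

/-- Comparison of two factorisations of one morphism. -/
theorem via_symm_pl (p₁ p₂ : T ⟶ S) (a : S ⟶ X) (b : T ⟶ X) (w₁ : p₁ ≫ a = b) (w₂ : p₂ ≫ a = b) (F : EtDesc.Sh X)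
    (U : X.Etale) (σ : EtDesc.sect F U) {W : T.Etale}
    (e₁ : W ⟶ (EtCoh.bc p₁).obj ((EtCoh.bc a).obj U))
    (e₂ : W ⟶ (EtCoh.bc p₂).obj ((EtCoh.bc a).obj U))
    (h : (e₁.left ≫ pullback.fst _ p₁) ≫ pullback.fst U.hom a =
      (e₂.left ≫ pullback.fst _ p₂) ≫ pullback.fst U.hom a) :
    (EtDesc.pullVia p₁ a b w₁ F ≪≫ (EtDesc.pullVia p₂ a b w₂ F).symm).hom.hom.app (op W)
        (((EtDesc.pullSh p₁).obj ((EtDesc.pullSh a).obj F)).obj.map e₁.op (pl _ _ (pl a F σ))) =
      ((EtDesc.pullSh p₂).obj ((EtDesc.pullSh a).obj F)).obj.map e₂.op (pl _ _ (pl a F σ)) := by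
  obtain ⟨d, hd⟩ : ∃ d : W ⟶ (EtCoh.bc b).obj U,
      d.left ≫ pullback.fst U.hom b = (e₁.left ≫ pullback.fst _ p₁) ≫ pullback.fst U.hom a := by
    refine ⟨MorphismProperty.Over.homMk
      (pullback.lift ((e₁.left ≫ pullback.fst _ p₁) ≫ pullback.fst U.hom a) W.hom ?_)
      (pullback.lift_snd _ _ _) trivial, pullback.lift_fst _ _ _⟩
    refine (Category.assoc _ _ _).trans ((congrArg (_ ≫ ·) pullback.condition).trans ?_)
    refine (Category.assoc _ _ _).symm.trans ?_
    refine (congrArg (· ≫ a) ((Category.assoc _ _ _).trans ((congrArg (e₁.left ≫ ·) pullback.condition).trans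
      ((Category.assoc _ _ _).symm.trans (congrArg (· ≫ p₁) (Over.w e₁.hom)))))).trans ?_
    exact (Category.assoc _ _ _).trans (congrArg (W.hom ≫ ·) w₁)
  exact trans_symm_apply _ _ W _ _
    ((pullVia_pl p₁ a b w₁ F U σ e₁ d hd.symm).trans (pullVia_pl p₂ a b w₂ F U σ e₂ d (h.symm.trans hd.symm)).symm)

theorem canIso_eq {X' : Scheme.{u}} (f : X' ⟶ X) (F : EtDesc.Sh X) :
    EtDesc.canIso f F = EtDesc.pullVia (pullback.fst f f) f (pullback.fst f f ≫ f) rfl F ≪≫
    (EtDesc.pullVia (pullback.snd f f) f (pullback.fst f f ≫ f) pullback.condition.symm F).symm := rfl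
/-- The canonical descent datum on doubly pulled back sections. -/
theorem canIso_pl {X' : Scheme.{u}} (f : X' ⟶ X) (F : EtDesc.Sh X) (U : X.Etale) (σ : EtDesc.sect F U)
    {W : (EtDesc.X2 f).Etale} (e₁ : W ⟶ (EtCoh.bc (pullback.fst f f)).obj ((EtCoh.bc f).obj U))
    (e₂ : W ⟶ (EtCoh.bc (pullback.snd f f)).obj ((EtCoh.bc f).obj U))
    (h : (e₁.left ≫ pullback.fst _ (pullback.fst f f)) ≫ pullback.fst U.hom f =
      (e₂.left ≫ pullback.fst _ (pullback.snd f f)) ≫ pullback.fst U.hom f) :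
    (EtDesc.canIso f F).hom.hom.app (op W)
        (((EtDesc.pullSh (pullback.fst f f)).obj ((EtDesc.pullSh f).obj F)).obj.map e₁.op (pl _ _ (pl f F σ))) =
      ((EtDesc.pullSh (pullback.snd f f)).obj ((EtDesc.pullSh f).obj F)).obj.map e₂.op (pl _ _ (pl f F σ)) := by
  have h' := via_symm_pl (pullback.fst f f) (pullback.snd f f) f (pullback.fst f f ≫ f) rfl pullback.condition.symm F U σ e₁ e₂ h
  exact (congrArg (fun i : (EtDesc.pullSh (pullback.fst f f)).obj ((EtDesc.pullSh f).obj F) ≅ (EtDesc.pullSh (pullback.snd f f)).obj ((EtDesc.pullSh f).obj F) => i.hom.hom.app (op W)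
        (((EtDesc.pullSh (pullback.fst f f)).obj ((EtDesc.pullSh f).obj F)).obj.map e₁.op (pl _ _ (pl f F σ)))) (canIso_eq f F)).trans h'


end Groth.Agent.Unr55.ShDesc
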