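import Groth.Agent.Unr55.ShDesc.CanPl

/-! Descent of sections of sheaves of sets along universally submersive morphisms. -/

universe u

open CategoryTheory CategoryTheory.Limits AlgebraicGeometry Opposite

set_option autoImplicit false
set_option backward.isDefEq.respectTransparency.types false

namespace Groth.Agent.Unr55.ShDesc

open Groth.Agent.CohProp4 Groth.Agent.Unr55.EtSh

variable {T X' X : Scheme.{u}}

theorem bc_map_fst (p : T ⟶ X) {A B : X.Etale} (m : A ⟶ B) :
    ((EtCoh.bc p).map m).left ≫ pullback.fst B.hom p = pullback.fst A.hom p ≫ m.left :=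
  pullback.lift_fst _ _ _

theorem eqLoc_app {F G : EtDesc.Sh X} (φ : F ⟶ G) {U : X.Etale} {σ τ : EtDesc.sect F U} {x : U.left}
    (h : x ∈ eqLoc F σ τ) : x ∈ eqLoc G (φ.hom.app (op U) σ) (φ.hom.app (op U) τ) := by
  obtain ⟨W, g, w, hw, e⟩ := h
  exact ⟨W, g, w, hw, (NatTrans.naturality_apply φ.hom g.op σ).symm.trans
    ((congrArg (φ.hom.app (op W)) e).trans (NatTrans.naturality_apply φ.hom g.op τ))⟩

theorem mem_eqLoc_map_pl_iff {S : Scheme.{u}} (p : T ⟶ S) {F : EtDesc.Sh S} {U : S.Etale} {W : T.Etale}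
    (e : W ⟶ (EtCoh.bc p).obj U) (σ τ : EtDesc.sect F U) (z : W.left) :
    z ∈ eqLoc ((EtDesc.pullSh p).obj F) (((EtDesc.pullSh p).obj F).obj.map e.op (pl p F σ))
        (((EtDesc.pullSh p).obj F).obj.map e.op (pl p F τ)) ↔
      (e.left ≫ pullback.fst U.hom p) z ∈ eqLoc F σ τ := by
  rw [mem_eqLoc_map_iff, mem_eqLoc_pl_iff]
  rfl

variable (f : X' ⟶ X)

/-- A section over a base change whose two pullbacks agree. -/
def Compat (F : EtDesc.Sh X) (U : X.Etale) (s : EtDesc.sect ((EtDesc.pullSh f).obj F) ((EtCoh.bc f).obj U)) :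
    Prop :=
  ∀ (W : (EtDesc.X2 f).Etale) (e₁ : W ⟶ (EtCoh.bc (pullback.fst f f)).obj ((EtCoh.bc f).obj U))
    (e₂ : W ⟶ (EtCoh.bc (pullback.snd f f)).obj ((EtCoh.bc f).obj U)),
    (e₁.left ≫ pullback.fst _ (pullback.fst f f)) ≫ pullback.fst U.hom f =
      (e₂.left ≫ pullback.fst _ (pullback.snd f f)) ≫ pullback.fst U.hom f →
    (EtDesc.canIso f F).hom.hom.app (op W)
        (((EtDesc.pullSh (pullback.fst f f)).obj ((EtDesc.pullSh f).obj F)).obj.map e₁.op (pl _ _ s)) =
      ((EtDesc.pullSh (pullback.snd f f)).obj ((EtDesc.pullSh f).obj F)).obj.map e₂.op (pl _ _ s)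

theorem compat_pl (F : EtDesc.Sh X) (U : X.Etale) (σ : EtDesc.sect F U) : Compat f F U (pl f F σ) :=
  fun _ e₁ e₂ h => canIso_pl f F U σ e₁ e₂ h

theorem compat_map (F : EtDesc.Sh X) {U P : X.Etale} (g : P ⟶ U)
    (s : EtDesc.sect ((EtDesc.pullSh f).obj F) ((EtCoh.bc f).obj U)) (hs : Compat f F U s) :
    Compat f F P (((EtDesc.pullSh f).obj F).obj.map ((EtCoh.bc f).map g).op s) := by
  intro W e₁ e₂ h
  have k : ∀ {S : Scheme.{u}} (p : EtDesc.X2 f ⟶ X') (e : W ⟶ (EtCoh.bc p).obj ((EtCoh.bc f).obj P)),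
      ((e ≫ (EtCoh.bc p).map ((EtCoh.bc f).map g)).left ≫ pullback.fst _ p) ≫ pullback.fst U.hom f =
        ((e.left ≫ pullback.fst _ p) ≫ pullback.fst P.hom f) ≫ g.left := by
    intro S p e
    refine (congrArg (· ≫ pullback.fst U.hom f) ((Category.assoc _ _ _).trans
      (congrArg (e.left ≫ ·) (bc_map_fst p ((EtCoh.bc f).map g))))).trans ?_
    refine (congrArg (· ≫ pullback.fst U.hom f) (Category.assoc _ _ _).symm).trans ?_
    refine (Category.assoc _ _ _).trans ((congrArg (_ ≫ ·) (bc_map_fst f g)).trans ?_)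
    exact (Category.assoc _ _ _).symm
  have h' := hs W (e₁ ≫ (EtCoh.bc _).map ((EtCoh.bc f).map g)) (e₂ ≫ (EtCoh.bc _).map ((EtCoh.bc f).map g))
    ((k (S := X) _ e₁).trans ((congrArg (· ≫ g.left) h).trans (k (S := X) _ e₂).symm))
  rw [op_comp, Functor.map_comp, op_comp, Functor.map_comp] at h'
  rw [pl_map, pl_map]
  exact h'

theorem surjective_fst (hf : EtDesc.IsUnivSubmersive f) (U : X.Etale) :
    Function.Surjective (pullback.fst U.hom f) := by
  rw [← pullbackSymmetry_hom_comp_snd U.hom f]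
  exact (hf _ U.hom).1.comp (pullbackSymmetry U.hom f).hom.surjective

theorem isQuotientMap_fst (hf : EtDesc.IsUnivSubmersive f) (U : X.Etale) :
    Topology.IsQuotientMap (pullback.fst U.hom f) := by
  rw [← pullbackSymmetry_hom_comp_snd U.hom f]
  exact (hf _ U.hom).2.comp (Scheme.homeoOfIso (pullbackSymmetry U.hom f)).isQuotientMap

theorem pl_injective (hf : EtDesc.IsUnivSubmersive f) (F : EtDesc.Sh X) {U : X.Etale} :
    Function.Injective (pl f F (U := U)) := fun σ τ h => eq_of_eqLoc F fun x => by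
  obtain ⟨z, rfl⟩ := surjective_fst f hf U x
  rw [← mem_eqLoc_pl_iff F f σ τ z, h]
  exact eqLoc_self _ _ _

/-- The common base change of a pair of composable base changes. -/
noncomputable def toBcBc (p : T ⟶ X') (b : T ⟶ X) (w : p ≫ f = b) (P : X.Etale) :
    (EtCoh.bc b).obj P ⟶ (EtCoh.bc p).obj ((EtCoh.bc f).obj P) :=
  MorphismProperty.Over.homMk
    (pullback.lift (pullback.lift (pullback.fst P.hom b) (pullback.snd P.hom b ≫ p)
      (by rw [Category.assoc, w]; exact pullback.condition)) (pullback.snd P.hom b) (pullback.lift_snd _ _ _))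
    (pullback.lift_snd _ _ _) trivial

theorem toBcBc_fst (p : T ⟶ X') (b : T ⟶ X) (w : p ≫ f = b) (P : X.Etale) :
    (toBcBc f p b w P).left ≫ pullback.fst _ p =
      pullback.lift (pullback.fst P.hom b) (pullback.snd P.hom b ≫ p)
        (by rw [Category.assoc, w]; exact pullback.condition) :=
  pullback.lift_fst _ _ _

/-- Two points with the same image come from a point of the base change to the double product. -/
theorem exists_pair (P : X.Etale) (y y' : ((EtCoh.bc f).obj P).left)
    (hy : pullback.fst P.hom f y = pullback.fst P.hom f y') :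
    ∃ z : ((EtCoh.bc (pullback.fst f f ≫ f)).obj P).left,
      ((toBcBc f (pullback.fst f f) _ rfl P).left ≫ pullback.fst _ (pullback.fst f f)) z = y ∧
      ((toBcBc f (pullback.snd f f) _ pullback.condition.symm P).left ≫ pullback.fst _ (pullback.snd f f)) z = y' := by
  let b := pullback.fst f f ≫ f
  let e₁ := toBcBc f (pullback.fst f f) b rfl P
  let e₂ := toBcBc f (pullback.snd f f) b pullback.condition.symm P
  obtain ⟨r, hr, hr'⟩ := Scheme.Pullback.exists_preimage_pullback (f := pullback.fst P.hom f)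
    (g := pullback.fst P.hom f) y y' hy
  let φ : pullback (pullback.fst P.hom f) (pullback.fst P.hom f) ⟶ pullback P.hom b :=
    pullback.lift (pullback.fst _ _ ≫ pullback.fst P.hom f)
      (pullback.lift (pullback.fst _ _ ≫ pullback.snd P.hom f) (pullback.snd _ _ ≫ pullback.snd P.hom f) (by
        rw [Category.assoc, Category.assoc, ← pullback.condition, ← pullback.condition_assoc]))
      (by
        simp only [b, Category.assoc]
        rw [pullback.lift_fst_assoc, Category.assoc, pullback.condition (f := P.hom) (g := f)])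
  have p1 : φ ≫ e₁.left ≫ pullback.fst _ (pullback.fst f f) = pullback.fst _ _ := by
    refine (congrArg (φ ≫ ·) (toBcBc_fst f _ b rfl P)).trans ?_
    apply pullback.hom_ext
    · exact (Category.assoc _ _ _).trans ((congrArg (φ ≫ ·) (pullback.lift_fst _ _ _)).trans (pullback.lift_fst _ _ _))
    · exact (Category.assoc _ _ _).trans ((congrArg (φ ≫ ·) (pullback.lift_snd _ _ _)).trans
        ((Category.assoc _ _ _).symm.trans ((congrArg (· ≫ pullback.fst f f) (pullback.lift_snd _ _ _)).trans
          (pullback.lift_fst _ _ _))))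
  have p2 : φ ≫ e₂.left ≫ pullback.fst _ (pullback.snd f f) = pullback.snd _ _ := by
    refine (congrArg (φ ≫ ·) (toBcBc_fst f _ b pullback.condition.symm P)).trans ?_
    apply pullback.hom_ext
    · exact (Category.assoc _ _ _).trans ((congrArg (φ ≫ ·) (pullback.lift_fst _ _ _)).trans
        ((pullback.lift_fst _ _ _).trans pullback.condition))
    · exact (Category.assoc _ _ _).trans ((congrArg (φ ≫ ·) (pullback.lift_snd _ _ _)).trans
        ((Category.assoc _ _ _).symm.trans ((congrArg (· ≫ pullback.snd f f) (pullback.lift_snd _ _ _)).trans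
          (pullback.lift_snd _ _ _))))
  have q1 : (e₁.left ≫ pullback.fst _ (pullback.fst f f)) (φ r) = y :=
    (congrArg (fun k : _ ⟶ ((EtCoh.bc f).obj P).left => k r) p1).trans hr
  have q2 : (e₂.left ≫ pullback.fst _ (pullback.snd f f)) (φ r) = y' :=
    (congrArg (fun k : _ ⟶ ((EtCoh.bc f).obj P).left => k r) p2).trans hr'
  exact ⟨φ r, q1, q2⟩

/-- Agreement loci of compatible sections are saturated. -/
theorem eqLoc_saturated (F : EtDesc.Sh X) {P : X.Etale}
    (s₁ s₂ : EtDesc.sect ((EtDesc.pullSh f).obj F) ((EtCoh.bc f).obj P)) (h₁ : Compat f F P s₁) (h₂ : Compat f F P s₂)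
    (y y' : ((EtCoh.bc f).obj P).left) (hy : pullback.fst P.hom f y = pullback.fst P.hom f y')
    (hm : y ∈ eqLoc _ s₁ s₂) : y' ∈ eqLoc _ s₁ s₂ := by
  let b := pullback.fst f f ≫ f
  let e₁ := toBcBc f (pullback.fst f f) b rfl P
  let e₂ := toBcBc f (pullback.snd f f) b pullback.condition.symm P
  have he : (e₁.left ≫ pullback.fst _ (pullback.fst f f)) ≫ pullback.fst P.hom f =
      (e₂.left ≫ pullback.fst _ (pullback.snd f f)) ≫ pullback.fst P.hom f := by
    rw [toBcBc_fst, toBcBc_fst]
    exact (pullback.lift_fst _ _ _).trans (pullback.lift_fst _ _ _).symm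
  obtain ⟨z, q1, q2⟩ := exists_pair f P y y' hy
  have h := (mem_eqLoc_map_pl_iff (pullback.fst f f) e₁ s₁ s₂ z).2 (q1.symm ▸ hm)
  have h' := eqLoc_app (EtDesc.canIso f F).hom h
  rw [h₁ _ e₁ e₂ he, h₂ _ e₁ e₂ he] at h'
  exact q2 ▸ (mem_eqLoc_map_pl_iff (pullback.snd f f) e₂ s₁ s₂ z).1 h'

/-- Sections with equal pullbacks descend. -/
theorem exists_of_compat (hf : EtDesc.IsUnivSubmersive f) (F : EtDesc.Sh X) (U : X.Etale)
    (s : EtDesc.sect ((EtDesc.pullSh f).obj F) ((EtCoh.bc f).obj U)) (hs : Compat f F U s) :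
    ∃ τ : EtDesc.sect F U, pl f F τ = s := by
  have loc : ∀ x : ((EtCoh.bc f).obj U).left, ∃ (B : X.Etale) (a : B ⟶ U) (σ : EtDesc.sect F B),
      (∃ v : B.left, a.left v = pullback.fst U.hom f x) ∧
        pl f F σ = ((EtDesc.pullSh f).obj F).obj.map ((EtCoh.bc f).map a).op s := by
    intro x
    obtain ⟨W, a, w, V, b, σ, hw, e⟩ := exists_local_pl f F s x
    have : Etale U.hom := U.prop
    have : Etale V.hom := V.prop
    let P : X.Etale := Scheme.Etale.mk (pullback.fst V.hom U.hom ≫ V.hom)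
    let bP : P ⟶ V := MorphismProperty.Over.homMk (pullback.fst V.hom U.hom) rfl trivial
    let aP : P ⟶ U := MorphismProperty.Over.homMk (pullback.snd V.hom U.hom) pullback.condition.symm trivial
    let s₁ := ((EtDesc.pullSh f).obj F).obj.map ((EtCoh.bc f).map bP).op (pl f F σ)
    let s₂ := ((EtDesc.pullSh f).obj F).obj.map ((EtCoh.bc f).map aP).op s
    let A := eqLoc ((EtDesc.pullSh f).obj F) s₁ s₂
    have hA : pullback.fst P.hom f ⁻¹' (pullback.fst P.hom f '' A) = A := by
      refine Set.Subset.antisymm (fun y' hy' => ?_) (Set.subset_preimage_image _ _)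
      obtain ⟨y, hy, hyy⟩ := hy'
      exact eqLoc_saturated f F s₁ s₂ (compat_map f F bP _ (compat_pl f F V σ)) (compat_map f F aP s hs)
        y y' hyy hy
    let O : P.left.Opens := ⟨pullback.fst P.hom f '' A,
      (isQuotientMap_fst f hf P).isOpen_preimage.1 (hA.symm ▸ isOpen_eqLoc _ s₁ s₂)⟩
    have wb : (b.left ≫ pullback.fst V.hom f) ≫ V.hom = (a.left ≫ pullback.fst U.hom f) ≫ U.hom := by
      exact (Category.assoc _ _ _).trans ((congrArg (b.left ≫ ·) pullback.condition).trans
        ((Category.assoc _ _ _).symm.trans ((congrArg (· ≫ f) ((Over.w b.hom).trans (Over.w a.hom).symm)).trans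
          ((Category.assoc _ _ _).trans ((congrArg (a.left ≫ ·) pullback.condition.symm).trans
            (Category.assoc _ _ _).symm)))))
    let l : W.left ⟶ P.left := pullback.lift (b.left ≫ pullback.fst V.hom f) (a.left ≫ pullback.fst U.hom f) wb
    let m : W ⟶ (EtCoh.bc f).obj P := MorphismProperty.Over.homMk (pullback.lift l W.hom (by
        refine (Category.assoc _ _ _).symm.trans ((congrArg (· ≫ V.hom) (pullback.lift_fst _ _ _)).trans ?_)
        exact (Category.assoc _ _ _).trans ((congrArg (b.left ≫ ·) pullback.condition).trans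
          ((Category.assoc _ _ _).symm.trans (congrArg (· ≫ f) (Over.w b.hom))))))
      (pullback.lift_snd _ _ _) trivial
    have hml : m.left ≫ pullback.fst P.hom f = l := pullback.lift_fst _ _ _
    have hmb : m ≫ (EtCoh.bc f).map bP = b := bc_hom_ext f _ _ <| by
      refine ((Category.assoc _ _ _).trans (congrArg (m.left ≫ ·) (bc_map_fst f bP))).trans ?_
      exact ((Category.assoc _ _ _).symm.trans (congrArg (· ≫ bP.left) hml)).trans (pullback.lift_fst _ _ _)
    have hma : m ≫ (EtCoh.bc f).map aP = a := bc_hom_ext f _ _ <| by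
      refine ((Category.assoc _ _ _).trans (congrArg (m.left ≫ ·) (bc_map_fst f aP))).trans ?_
      exact ((Category.assoc _ _ _).symm.trans (congrArg (· ≫ aP.left) hml)).trans (pullback.lift_snd _ _ _)
    have hmA : m.left w ∈ A := (mem_eqLoc_map_iff _ m s₁ s₂ w).1 (by
      simp only [s₁, s₂]
      rw [← Functor.map_comp_apply, ← Functor.map_comp_apply, ← op_comp, ← op_comp, hmb, hma, ← e]
      exact eqLoc_self _ _ _)
    refine ⟨openSub P O, openSubι P O ≫ aP, F.obj.map (openSubι P O ≫ bP).op σ, ?_, ?_⟩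
    · obtain ⟨v, hv⟩ : pullback.fst P.hom f (m.left w) ∈ Set.range (openSubι P O).left :=
        (range_openSubι P O).symm ▸ ⟨m.left w, hmA, rfl⟩
      refine ⟨v, ?_⟩
      rw [← hw]
      change aP.left ((openSubι P O).left v) = _
      rw [hv]
      exact congrArg (fun k : W.left ⟶ U.left => k w)
        ((Category.assoc _ _ _).symm.trans ((congrArg (· ≫ aP.left) hml).trans (pullback.lift_snd _ _ _)))
    · rw [pl_map, Functor.map_comp, Functor.map_comp, op_comp, op_comp, Functor.map_comp, Functor.map_comp]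
      refine eq_of_eqLoc _ fun z => (mem_eqLoc_map_iff _ ((EtCoh.bc f).map (openSubι P O)) s₁ s₂ z).2 ?_
      have hz : pullback.fst P.hom f (((EtCoh.bc f).map (openSubι P O)).left z) =
          (openSubι P O).left (pullback.fst (openSub P O).hom f z) :=
        congrArg (fun k : _ ⟶ P.left => k z) (bc_map_fst f (openSubι P O))
      refine hA.subset (Set.mem_preimage.2 ?_)
      exact hz.symm ▸ (range_openSubι P O).subset ⟨_, rfl⟩
  choose B a σ ha hσ using loc
  obtain ⟨τ, hτ⟩ := exists_glue F B a (fun u => by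
    obtain ⟨x, rfl⟩ := surjective_fst f hf U u
    exact ⟨x, ha x⟩) σ fun i j Z gi gj hg z => by
      have : F.obj.map gi.op (σ i) = F.obj.map gj.op (σ j) := pl_injective f hf F (by
        rw [pl_map, pl_map, hσ, hσ, ← Functor.map_comp_apply, ← Functor.map_comp_apply, ← op_comp, ← op_comp,
          ← Functor.map_comp, ← Functor.map_comp, hg])
      rw [this]
      exact eqLoc_self _ _ _
  refine ⟨τ, eq_of_eqLoc _ fun x => ?_⟩
  obtain ⟨v, hv⟩ := ha x
  obtain ⟨y, hy, hy'⟩ := Scheme.exists_preimage_of_isPullback (EtCoh.isPullback_bc_map f (a x)).flip v x hv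
  rw [← hy', ← mem_eqLoc_map_iff, ← pl_map, hτ, hσ]
  exact eqLoc_self _ _ _

theorem existsUnique_of_compat (hf : EtDesc.IsUnivSubmersive f) (F : EtDesc.Sh X) (U : X.Etale)
    (s : EtDesc.sect ((EtDesc.pullSh f).obj F) ((EtCoh.bc f).obj U)) (hs : Compat f F U s) :
    ∃! τ : EtDesc.sect F U, pl f F τ = s := by
  obtain ⟨τ, hτ⟩ := exists_of_compat f hf F U s hs
  exact ⟨τ, hτ, fun τ' h => pl_injective f hf F (h.trans hτ.symm)⟩

end Groth.Agent.Unr55.ShDesc
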